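import Cfsg.Agent.Lib.Recognition.PrimeOrders.Global
import Cfsg.Agent.Lib.Involution.SelfCentNoncyclicMain
import Cfsg.Agent.Lib.LocalEven.BenderTransitive.Main
import Cfsg.Agent.Lib.FTApps.KleinFour
import Cfsg.Agent.S3224
import Cfsg.Agent.S1213
import Cfsg.Agent.S0035
import Cfsg.Agent.S0340
import Cfsg.Agent.S0204
import Cfsg.Prelude.Def_LieExceptional

/-!
A simple group whose involution centralisers are 2-groups and whose 2-local subgroups have order
`2^a * r` is `PSL(2, q)` or of Suzuki order.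
-/

set_option autoImplicit false

open Subgroup MulAction

namespace CfsgLib.Recognition.PrimeOrders

universe u

variable {G : Type u} [Group G] [Finite G]

/-- A self-centralising natural four-group forces a dihedral Sylow 2-subgroup and `PSL(2, q)`. -/
theorem Hyp.psl_of_self_centralizing [IsSimpleGroup G] (H : Hyp G) (hna : ¬ IsMulCommutative G)
    {V : Subgroup G} (hV : Natural V) (hC : centralizer (V : Set G) = V) :
    ∃ (F : Type) (_ : Field F) (_ : Fintype F),
      Nonempty (G ≃* Matrix.ProjectiveSpecialLinearGroup (Fin 2) F) := by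
  classical
  haveI : Fact (Nat.Prime 2) := ⟨Nat.prime_two⟩
  obtain ⟨T, -, hT⟩ := exists_isSyl (centralizer_le_normalizer V) (hV.centralizer_isPGroup H)
  have hVT : V ≤ T := hC ▸ hV.centralizer_le_syl H hT
  have hT8 : Nat.card T = 8 := by rw [hV.card_syl H hT, hC, hV.card]
  obtain ⟨z, hzV, hz1, hzT, huniq⟩ := hV.exists_fixed H hT
  obtain ⟨v, hv, hv1, hvz⟩ : ∃ v ∈ V, v ≠ 1 ∧ v ≠ z := by
    by_contra h'
    push Not at h'
    have hle : V ≤ zpowers z := fun x hx => by
      by_cases hx1 : x = 1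
      · rw [hx1]; exact one_mem _
      · rw [h' x hx hx1]; exact mem_zpowers z
    have := Subgroup.card_le_of_le hle
    rw [hV.card, Nat.card_zpowers,
      orderOf_eq_prime (by rw [pow_two]; exact hV.elem z hzV) hz1] at this
    omega
  obtain ⟨S, hTS⟩ := hT.2.1.exists_le_sylow
  have hSN : (S : Subgroup G) ⊓ normalizer (V : Set G) = T :=
    (Subgroup.eq_of_le_of_card_ge (le_inf hTS hT.1)
      (hT.2.2 _ inf_le_right (S.isPGroup'.to_le inf_le_left))).symm
  set R := (S : Subgroup G) ⊓ centralizer ({v} : Set G) with hR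
  have hVR : V ≤ R := fun x hx =>
    ⟨hTS (hVT hx), Subgroup.mem_centralizer_singleton_iff.2 (hV.elem.comm hx hv)⟩
  have hRV : R = V := by
    rcases eq_or_lt_of_le hVR with e | hlt
    · exact e.symm
    exfalso
    obtain ⟨x, hx, hxV⟩ := SetLike.exists_of_lt (exists_normalizing (S.isPGroup'.to_le inf_le_left) hlt)
    have hxT : x ∈ T := hSN ▸ ⟨hx.1.1, hx.2⟩
    have hxv : x * v = v * x := Subgroup.mem_centralizer_singleton_iff.1 hx.1.2
    have hidx : (V.subgroupOf T).index = 2 := by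
      have := Subgroup.card_mul_index (V.subgroupOf T)
      rw [Nat.card_congr (Subgroup.subgroupOfEquivOfLe hVT).toEquiv, hV.card, hT8] at this
      omega
    rcases huniq v hv (fun t ht => by
      by_cases htV : t ∈ V
      · exact hV.elem.comm htV hv
      · have hq : x⁻¹ * t ∈ V := (Subgroup.mul_mem_iff_of_index_two hidx
          (a := (⟨x, hxT⟩ : T)⁻¹) (b := ⟨t, ht⟩)).2
          ⟨fun e => absurd ((V.subgroupOf T).inv_mem_iff.1 e) hxV, fun e => absurd e htV⟩
        calc t * v = x * ((x⁻¹ * t) * v) := by group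
          _ = (x * v) * (x⁻¹ * t) := by rw [hV.elem.comm hq hv]; group
          _ = v * t := by rw [hxv]; group) with e | e
    · exact hv1 e
    · exact hvz e
  have hv2 : orderOf v = 2 := orderOf_eq_prime (by rw [pow_two]; exact hV.elem v hv) hv1
  let vS : ↥(S : Subgroup G) := ⟨v, hTS (hVT hv)⟩
  have hcard : Nat.card ↥(centralizer ({vS} : Set ↥(S : Subgroup G))) = 4 := by
    rw [← hV.card, ← hRV]
    exact Nat.card_congr
      { toFun := fun x => ⟨((x : ↥(S : Subgroup G)) : G), ⟨(x : ↥(S : Subgroup G)).2,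
          Subgroup.mem_centralizer_singleton_iff.2
            (congrArg Subtype.val (Subgroup.mem_centralizer_singleton_iff.1 x.2))⟩⟩
        invFun := fun x => ⟨⟨x.1, x.2.1⟩, Subgroup.mem_centralizer_singleton_iff.2
          (Subtype.ext (Subgroup.mem_centralizer_singleton_iff.1 x.2.2))⟩
        left_inv := fun _ => rfl
        right_inv := fun _ => rfl }
  have hS8 : 8 ≤ Nat.card ↥(S : Subgroup G) := hT8 ▸ Subgroup.card_le_of_le hTS
  obtain ⟨t, -, ht, -, htS, -, -, htc⟩ :=
    CfsgLib.Involution.SelfCentNoncyclic.exists_two_involutions hna S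
  have hC2 := H.cit t ht
  rcases Cfsg.Agent.S3224.result S.isPGroup' vS (by rw [Subgroup.orderOf_mk, hv2]) hcard with
    ⟨n, hφ⟩ | hqd | h4
  · obtain ⟨φ⟩ := hφ
    have hn : 2 ≤ n := by
      have h1 : Nat.card ↥(S : Subgroup G) = 2 * n := by
        rw [Nat.card_congr φ.toEquiv, DihedralGroup.nat_card]
      omega
    obtain ⟨F, hF, hFt, -, he⟩ := CfsgLib.Characterizations.BSW.psl_of_dihedral S n hn ⟨φ⟩ t ht htS htc ⊥
      (by
        have hO : Cfsg.oddCore ↥(Subgroup.centralizer ({t} : Set G)) = ⊥ := by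
          obtain ⟨j, hj⟩ := IsPGroup.iff_card.1
            (hC2.to_subgroup (Cfsg.oddCore ↥(Subgroup.centralizer ({t} : Set G))))
          have hodd := CfsgLib.Involution.ZStar.odd_card_oddCore (G := ↥(Subgroup.centralizer ({t} : Set G)))
          refine Subgroup.card_eq_one.1 ?_
          rw [hj] at hodd ⊢
          rcases Nat.eq_zero_or_pos j with rfl | h
          · rw [pow_zero]
          · exact absurd ((Nat.odd_pow_iff h.ne').1 hodd) (by decide)
        rw [hO, Subgroup.map_bot])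
      (fun h => absurd rfl h)
      (fun s _ hsn => absurd (Subgroup.mem_centralizer_iff.2 fun y hy => by
        rw [SetLike.mem_coe, Subgroup.mem_bot] at hy
        rw [hy, one_mul, mul_one]) hsn)
      (fun Y hY hY' => absurd (le_bot_iff.1 hY) hY')
    exact ⟨F, hF, hFt, he⟩
  · exfalso
    obtain ⟨R', -, ⟨K, -, -, hK2, hKQ⟩, -⟩ := Cfsg.Agent.S1213.result S (Or.inl hqd)
      (CfsgLib.Involution.SelfCentNoncyclic.index_ne_two hna) t ht
    obtain ⟨j, hj⟩ := IsPGroup.iff_card.1 (hC2.to_subgroup K)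
    rcases Nat.eq_zero_or_pos j with rfl | hjpos
    · obtain ⟨P⟩ : Nonempty (Sylow 2 K) := Sylow.nonempty
      obtain ⟨m, hm, ⟨e⟩⟩ := hKQ P
      have h1 : Nat.card (P : Subgroup K) ≤ Nat.card K := Subgroup.card_le_card_group _
      haveI : NeZero (2 ^ m) := ⟨by positivity⟩
      rw [Nat.card_congr e.toEquiv, Nat.card_eq_fintype_card, QuaternionGroup.card, hj, pow_zero] at h1
      have := Nat.two_pow_pos m
      omega
    · obtain ⟨W, hW⟩ := Sylow.exists_subgroup_card_pow_prime 2 (n := j - 1)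
        (G := K) (hj ▸ pow_dvd_pow 2 (Nat.sub_le j 1))
      refine hK2 W ?_
      have h1 := W.card_mul_index
      rw [hW, hj] at h1
      have h2 : 2 ^ j = 2 ^ (j - 1) * 2 := by rw [← pow_succ, Nat.sub_add_cancel hjpos]
      rw [h2] at h1
      exact Nat.eq_of_mul_eq_mul_left (Nat.two_pow_pos _) h1
  · omega

/-- Involutions of a strongly embedded subgroup are conjugate in it, in a simple group. -/
theorem conj_of_stronglyEmbedded [IsSimpleGroup G] {H₀ : Subgroup G}
    (hH : Cfsg.IsStronglyEmbedded H₀) {t t' : G} (ht : orderOf t = 2) (ht' : orderOf t' = 2)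
    (htH : t ∈ H₀) (ht'H : t' ∈ H₀) : ∃ h ∈ H₀, h * t * h⁻¹ = t' := by
  classical
  -- centralisers of involutions of `H₀` lie in `H₀`
  have hcent : ∀ s : G, orderOf s = 2 → s ∈ H₀ → ∀ c : G, c * s = s * c → c ∈ H₀ := by
    intro s hs hsH c hc
    by_contra hcH
    have hodd := hH.2.2 c hcH
    have hmem : s ∈ H₀ ⊓ H₀.map (MulAut.conj c).toMonoidHom := ⟨hsH, s, hsH, by
      show c * s * c⁻¹ = s
      rw [hc, mul_inv_cancel_right]⟩
    have h2 : orderOf (⟨s, hmem⟩ : ↥(H₀ ⊓ H₀.map (MulAut.conj c).toMonoidHom)) = 2 := by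
      rw [Subgroup.orderOf_mk, hs]
    exact (Nat.not_even_iff_odd.2 hodd) (even_iff_two_dvd.2 (h2 ▸ orderOf_dvd_natCard _))
  obtain ⟨u, hu, huH⟩ : ∃ u : G, orderOf u = 2 ∧ u ∉ H₀ := by
    by_contra h'
    push Not at h'
    haveI : (normalClosure ({t} : Set G)).Normal := normalClosure_normal
    rcases (inferInstance : (normalClosure ({t} : Set G)).Normal).eq_bot_or_eq_top with h | h
    · have h1 : t ∈ normalClosure ({t} : Set G) := subset_normalClosure rfl
      rw [h, Subgroup.mem_bot] at h1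
      rw [h1, orderOf_one] at ht
      omega
    · refine hH.1 (top_le_iff.1 (h ▸ ?_))
      refine (Subgroup.closure_le _).2 fun x hx => ?_
      obtain ⟨a, ha, hax⟩ := Group.mem_conjugatesOfSet_iff.1 hx
      rw [Set.mem_singleton_iff.1 ha] at hax
      obtain ⟨c, rfl⟩ := isConj_iff.1 hax
      exact h' _ ((MulAut.conj c).orderOf_eq t ▸ ht)
  have hout : ∀ s : G, orderOf s = 2 → s ∈ H₀ → IsConj s u := by
    intro s hs hsH
    rcases Nat.even_or_odd (orderOf (s * u)) with he | ho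
    · exfalso
      obtain ⟨n, hn⟩ := he
      have hn0 : 0 < n := by have := orderOf_pos (s * u); omega
      set w := (s * u) ^ n with hw
      have hw2 : orderOf w = 2 := by
        refine orderOf_eq_prime ?_ (pow_ne_one_of_lt_orderOf hn0.ne' (by omega))
        rw [hw, ← pow_mul, mul_two, ← hn, pow_orderOf_eq_one]
      have hs1 : s * s = 1 := CfsgLib.Involution.SelfCentNoncyclic.sq_of_orderOf hs
      have hu1 : u * u = 1 := CfsgLib.Involution.SelfCentNoncyclic.sq_of_orderOf hu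
      have hinv : ∀ x : G, x * x = 1 → x * (s * u) * x⁻¹ = (s * u)⁻¹ → w * x = x * w := by
        intro x hx e
        have h1 : x * w * x⁻¹ = w⁻¹ := by rw [hw, ← conj_pow, e, inv_pow]
        rw [inv_eq_of_mul_eq_one_right
          (CfsgLib.Involution.SelfCentNoncyclic.sq_of_orderOf hw2)] at h1
        exact (mul_inv_eq_iff_eq_mul.1 h1).symm
      have hsi : s⁻¹ = s := inv_eq_of_mul_eq_one_right hs1
      have hui : u⁻¹ = u := inv_eq_of_mul_eq_one_right hu1
      have hwH : w ∈ H₀ := hcent s hs hsH w (hinv s hs1 (by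
        rw [mul_inv_rev, hui, hsi, ← mul_assoc s s u, hs1, one_mul]))
      exact huH (hcent w hw2 hwH u (hinv u hu1 (by
        rw [mul_inv_rev, hui, hsi, mul_assoc, mul_assoc, hu1, mul_one])).symm)
    · exact CfsgLib.Involution.Dihedral.isConj_of_odd hs hu ho
  obtain ⟨g, hg⟩ := isConj_iff.1 ((hout t ht htH).trans (hout t' ht' ht'H).symm)
  refine ⟨g, ?_, hg⟩
  by_contra hgH
  have hodd := hH.2.2 g hgH
  have hmem : t' ∈ H₀ ⊓ H₀.map (MulAut.conj g).toMonoidHom := ⟨ht'H, t, htH, hg⟩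
  have h2 : orderOf (⟨t', hmem⟩ : ↥(H₀ ⊓ H₀.map (MulAut.conj g).toMonoidHom)) = 2 := by
    rw [Subgroup.orderOf_mk, ht']
  exact (Nat.not_even_iff_odd.2 hodd) (even_iff_two_dvd.2 (h2 ▸ orderOf_dvd_natCard _))

/-- A strongly embedded 2-local subgroup makes the group a Zassenhaus group. -/
theorem Hyp.isZassenhaus [IsSimpleGroup G] (H : Hyp G) (hna : ¬ IsMulCommutative G)
    {D : Subgroup G} (hD : IsPGroup 2 D) (hD1 : D ≠ ⊥)
    (hH : Cfsg.IsStronglyEmbedded (normalizer (D : Set G))) :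
    Cfsg.IsZassenhausGroup G (G ⧸ normalizer (D : Set G)) := by
  classical
  haveI : Fact (Nat.Prime 2) := ⟨Nat.prime_two⟩
  set H₀ := normalizer (D : Set G) with hH₀
  obtain ⟨a, r, hr, hrodd, hcard⟩ := H.locals D hD hD1
  have hcomm : ∃ x y : G, orderOf x = 2 ∧ orderOf y = 2 ∧ x ≠ y ∧ Commute x y := by
    obtain ⟨S⟩ : Nonempty (Sylow 2 G) := Sylow.nonempty
    obtain ⟨t, u, ht, hu, -, huS, hne, hc⟩ :=
      CfsgLib.Involution.SelfCentNoncyclic.exists_two_involutions hna S
    exact ⟨u, t, hu, ht, hne, hc u huS⟩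
  have hPT := CfsgLib.LocalEven.BenderTransitive.pairTransitive hH hcomm
  set e : G ⧸ H₀ := ((1 : G) : G ⧸ H₀) with he
  haveI : MulAction.IsPretransitive G (G ⧸ H₀) := MulAction.isPretransitive_quotient G H₀
  haveI h2pre : MulAction.IsMultiplyPretransitive G (G ⧸ H₀) 2 := by
    rw [MulAction.is_two_pretransitive_iff]
    intro x y x' y' hxy hxy'
    obtain ⟨g, hg⟩ := MulAction.exists_smul_eq G x x'
    have hgy : g • y ≠ x' := fun h => hxy (by
      have : g • x = g • y := hg.trans h.symm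
      exact MulAction.injective g this)
    obtain ⟨k, hk1, hk2⟩ := hPT x' (g • y) y' hgy hxy'.symm
    exact ⟨k * g, by rw [mul_smul, hg, hk1], by rw [mul_smul, hk2]⟩
  haveI hfaith : FaithfulSMul G (G ⧸ H₀) := by
    refine ⟨fun {g₁ g₂} h => ?_⟩
    have hker : (H₀.normalCore) = ⊥ := by
      rcases (inferInstance : H₀.normalCore.Normal).eq_bot_or_eq_top with h' | h'
      · exact h'
      · exact absurd (top_le_iff.1 (h' ▸ H₀.normalCore_le)) hH.1
    have hmem : g₂⁻¹ * g₁ ∈ H₀.normalCore := by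
      rw [Subgroup.normalCore_eq_ker, MonoidHom.mem_ker]
      ext x
      show (g₂⁻¹ * g₁) • x = x
      rw [mul_smul, h x, inv_smul_smul]
    rw [hker, Subgroup.mem_bot, inv_mul_eq_one] at hmem
    exact hmem.symm
  -- intersections of `H₀` with its other conjugates
  have hdvd : ∀ g : G, g ∉ H₀ → Nat.card ↥(H₀ ⊓ cj g H₀) ∣ r := by
    intro g hg
    have h1 : Nat.card ↥(H₀ ⊓ cj g H₀) ∣ 2 ^ a * r := hcard ▸ Subgroup.card_dvd_of_le inf_le_left
    exact (Nat.Coprime.pow_right _ (Nat.coprime_two_right.2 (hH.2.2 g hg))).dvd_of_dvd_mul_left h1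
  -- they are all conjugate under `H₀`
  have hall : ∀ g g' : G, g ∉ H₀ → g' ∉ H₀ → ∃ h ∈ H₀, (h * g : G ⧸ H₀) = (g' : G ⧸ H₀) ∧
      H₀ ⊓ cj g' H₀ = cj h (H₀ ⊓ cj g H₀) := by
    intro g g' hg hg'
    obtain ⟨h, hh, hmem⟩ := CfsgLib.LocalEven.BenderTransitive.exists_smul_mem hH hcomm g g' hg hg'
    refine ⟨h, hh, (QuotientGroup.eq.2 hmem).symm, ?_⟩
    ext x
    rw [Subgroup.mem_inf, mem_cj, mem_cj, Subgroup.mem_inf, mem_cj]
    have key : g'⁻¹ * x * g' ∈ H₀ ↔ g⁻¹ * (h⁻¹ * x * h) * g ∈ H₀ := by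
      constructor
      · intro hx
        have := H₀.mul_mem (H₀.mul_mem (H₀.inv_mem hmem) hx) hmem
        simpa [mul_assoc] using this
      · intro hx
        have := H₀.mul_mem (H₀.mul_mem hmem hx) (H₀.inv_mem hmem)
        simpa [mul_assoc] using this
    constructor
    · rintro ⟨h1, h2⟩
      exact ⟨H₀.mul_mem (H₀.mul_mem (H₀.inv_mem hh) h1) hh, key.1 h2⟩
    · rintro ⟨h1, h2⟩
      refine ⟨?_, key.2 h2⟩
      have := H₀.mul_mem (H₀.mul_mem hh h1) (H₀.inv_mem hh)
      simpa [mul_assoc] using this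
  obtain ⟨g₀, hg₀⟩ : ∃ g : G, g ∉ H₀ := SetLike.exists_of_lt (lt_top_iff_ne_top.2 hH.1) |>.imp fun _ h => h.2
  set K := H₀ ⊓ cj g₀ H₀ with hK
  have hK1 : K ≠ ⊥ := by
    intro hbot
    have htriv : ∀ g : G, g ∉ H₀ → H₀ ⊓ cj g H₀ = ⊥ := fun g hg => by
      obtain ⟨h, -, -, e'⟩ := hall g₀ g hg₀ hg
      rw [e', ← hK, hbot]
      exact Subgroup.map_bot _
    have hFrob : Cfsg.IsFrobeniusComplement H₀ := by
      refine ⟨fun h => ?_, hH.1, fun g hg => ?_⟩
      · have := hH.2.1
        rw [h, Subgroup.card_bot] at this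
        exact absurd this (by decide)
      · rw [← htriv g hg]; rfl
    obtain ⟨N, -, hN, hcomp⟩ := Cfsg.Agent.S0035.result H₀ hFrob
    rcases hN.eq_bot_or_eq_top with rfl | rfl
    · exact hH.1 (Subgroup.isComplement'_bot_left.1 hcomp)
    · exact hFrob.1 (Subgroup.isComplement'_top_left.1 hcomp)
  have hrp : r.Prime := by
    rcases hr with rfl | h
    · exact absurd (Subgroup.card_eq_one.1 (Nat.dvd_one.1 (hdvd g₀ hg₀))) hK1
    · exact h
  have hKr : Nat.card K = r := ((Nat.dvd_prime hrp).1 (hdvd g₀ hg₀)).resolve_left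
    fun h => hK1 (Subgroup.card_eq_one.1 h)
  haveI : Fact r.Prime := ⟨hrp⟩
  have hgen : ∀ x ∈ K, x ≠ 1 → zpowers x = K := fun x hx hx1 => by
    refine Subgroup.eq_of_le_of_card_ge (zpowers_le.2 hx) ?_
    rw [hKr, Nat.card_zpowers]
    have : orderOf x ∣ r := hKr ▸ Subgroup.orderOf_dvd_natCard K hx
    exact (((Nat.dvd_prime hrp).1 this).resolve_left fun h => hx1 (orderOf_eq_one_iff.1 h)).ge
  -- `N_{H₀}(K) = K`
  have hNK : ∀ n ∈ H₀, n ∈ normalizer (K : Set G) → n ∈ K := by
    set P := H₀ ⊓ normalizer (K : Set G) with hP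
    have hKP : K ≤ P := le_inf inf_le_left Subgroup.le_normalizer
    have hodd : ¬ 2 ∣ Nat.card P := by
      intro h2
      obtain ⟨c, hc⟩ := exists_prime_orderOf_dvd_card' (G := P) 2 h2
      have hc2 : orderOf (c : G) = 2 := by rw [Subgroup.orderOf_coe, hc]
      obtain ⟨t, ht⟩ : ∃ t : D, orderOf t = 2 := by
        haveI : Nontrivial D := (Subgroup.nontrivial_iff_ne_bot D).2 hD1
        obtain ⟨k, hk, hk'⟩ := hD.nontrivial_iff_card.1 inferInstance
        exact exists_prime_orderOf_dvd_card' (G := D) 2 (hk' ▸ dvd_pow_self 2 hk.ne')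
      obtain ⟨h, hh, hconj⟩ := conj_of_stronglyEmbedded hH (t := (t : G)) (t' := (c : G))
        (by rw [Subgroup.orderOf_coe, ht]) hc2 (Subgroup.le_normalizer t.2) c.2.1
      have hcD : (c : G) ∈ D := hconj ▸ (Subgroup.mem_normalizer_iff.1 hh _).1 t.2
      obtain ⟨⟨k, hk⟩, hk1⟩ : ∃ k : K, k ≠ 1 := by
        by_contra h'
        push Not at h'
        exact hK1 ((Subgroup.eq_bot_iff_forall K).2 fun x hx => congrArg Subtype.val (h' ⟨x, hx⟩))
      have hk1' : k ≠ 1 := fun h => hk1 (Subtype.ext h)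
      have hckK : (c : G) * k * (c : G)⁻¹ * k⁻¹ ∈ D ⊓ K := by
        refine ⟨?_, K.mul_mem ((Subgroup.mem_normalizer_iff.1 c.2.2 k).1 hk) (K.inv_mem hk)⟩
        have := (Subgroup.mem_normalizer_iff.1 (hk.1 : k ∈ H₀) _).1 (D.inv_mem hcD)
        simpa [mul_assoc] using D.mul_mem hcD this
      have hcop : D ⊓ K = ⊥ := by
        refine Subgroup.inf_eq_bot_of_coprime ?_
        obtain ⟨j, hj⟩ := IsPGroup.iff_card.1 hD
        rw [hj, hKr]
        exact Nat.Coprime.pow_left _ (Nat.coprime_two_left.2 hrodd)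
      rw [hcop, Subgroup.mem_bot, mul_inv_eq_one, mul_inv_eq_iff_eq_mul] at hckK
      refine hk1' (H.eq_one_of_commute hD hcD (fun h => by rw [h, orderOf_one] at hc2; omega) ?_ hckK.symm)
      have : orderOf k ∣ r := hKr ▸ Subgroup.orderOf_dvd_natCard K hk
      exact Odd.of_dvd_nat hrodd this
    have hPr : Nat.card P ∣ r := by
      have h1 : Nat.card P ∣ 2 ^ a * r := hcard ▸ Subgroup.card_dvd_of_le inf_le_left
      exact (Nat.Coprime.pow_right _ ((Nat.prime_two.coprime_iff_not_dvd.2 hodd).symm)).dvd_of_dvd_mul_left h1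
    have hPK : K = P := Subgroup.eq_of_le_of_card_ge hKP (hKr ▸ Nat.le_of_dvd hrp.pos hPr)
    intro n hn hnK
    rw [hPK]
    exact ⟨hn, hnK⟩
  have hstab : ∀ (x g : G), x • (g : G ⧸ H₀) = (g : G ⧸ H₀) ↔ x ∈ cj g H₀ := by
    intro x g
    rw [mem_cj, MulAction.Quotient.smul_mk, QuotientGroup.eq, smul_eq_mul]
    constructor
    · intro h
      have := H₀.inv_mem h
      simpa [mul_assoc] using this
    · intro h
      have := H₀.inv_mem h
      simpa [mul_assoc] using this
  refine ⟨hfaith, h2pre, ?_, ?_, ?_⟩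
  · intro x p q s hpq hqs hps hp hq hs
    by_contra hx1
    obtain ⟨k, hkp, hkq⟩ := (MulAction.is_two_pretransitive_iff.1 h2pre) hpq
      (show e ≠ (g₀ : G ⧸ H₀) from fun h => hg₀ (by simpa [he] using QuotientGroup.eq.1 h))
    obtain ⟨g', hg'⟩ := QuotientGroup.mk_surjective (k • s)
    set y := k * x * k⁻¹ with hy
    have hfix : ∀ o : G ⧸ H₀, x • o = o → y • (k • o) = k • o := fun o ho => by
      rw [hy, mul_smul, mul_smul, inv_smul_smul, ho]
    have h1 : y ∈ H₀ := by
      have := (hstab y 1).1 (by rw [← he, ← hkp]; exact hfix p hp)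
      rwa [cj_one] at this
    have h2 : y ∈ cj g₀ H₀ := (hstab y g₀).1 (by rw [← hkq]; exact hfix q hq)
    have h3 : y ∈ cj g' H₀ := (hstab y g').1 (by rw [hg']; exact hfix s hs)
    have hy1 : y ≠ 1 := fun h => hx1 (by simpa [hy] using h)
    have hg'H : g' ∉ H₀ := fun h => hps (MulAction.injective k (by
      show k • p = k • s
      rw [hkp, ← hg', he, QuotientGroup.eq, inv_one, one_mul]
      exact h))
    obtain ⟨h, hh, hq', hK'⟩ := hall g₀ g' hg₀ hg'H
    have hyK : y ∈ K := ⟨h1, h2⟩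
    have hcardK' : Nat.card ↥(H₀ ⊓ cj g' H₀) = r := by rw [hK', card_cj, ← hK, hKr]
    have hKK : cj h K = K := by
      rw [hK, ← hK', ← hK]
      have hle : zpowers y ≤ H₀ ⊓ cj g' H₀ := zpowers_le.2 ⟨h1, h3⟩
      refine ((hgen y hyK hy1).symm.trans (Subgroup.eq_of_le_of_card_ge hle ?_)).symm
      rw [hgen y hyK hy1, hKr, hcardK']
    have hhK : h ∈ K := hNK h hh (mem_normalizer_iff_cj.2 hKK)
    have : k • s = k • q := by
      rw [hkq, ← hg', ← hq']
      exact (hstab h g₀).2 hhK.2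
    exact hqs (MulAction.injective k this.symm)
  · obtain ⟨⟨x, hx⟩, hx1⟩ : ∃ k : K, k ≠ 1 := by
      by_contra h'
      push Not at h'
      exact hK1 ((Subgroup.eq_bot_iff_forall K).2 fun x hx => congrArg Subtype.val (h' ⟨x, hx⟩))
    refine ⟨x, fun h => hx1 (Subtype.ext h), e, (g₀ : G ⧸ H₀),
      fun h => hg₀ (by simpa [he] using QuotientGroup.eq.1 h), ?_, (hstab x g₀).2 hx.2⟩
    exact (hstab x 1).2 (by rw [cj_one]; exact hx.1)
  · intro N hN _
    rcases hN.eq_bot_or_eq_top with rfl | rfl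
    · exfalso
      rename_i hpre
      obtain ⟨⟨n, hn⟩, hne⟩ := hpre.exists_smul_eq e (g₀ : G ⧸ H₀)
      rw [Subgroup.mem_bot] at hn
      subst hn
      have h' := QuotientGroup.eq.1 (show ((1 : G) : G ⧸ H₀) = (g₀ : G ⧸ H₀) by simpa [he] using hne)
      rw [inv_one, one_mul] at h'
      exact hg₀ h' 
    · refine ⟨e, fun h => ?_⟩
      obtain ⟨⟨x, hx⟩, hx1⟩ : ∃ k : K, k ≠ 1 := by
        by_contra h'
        push Not at h'
        exact hK1 ((Subgroup.eq_bot_iff_forall K).2 fun x hx => congrArg Subtype.val (h' ⟨x, hx⟩))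
      have hmem : (⟨x, Subgroup.mem_top x⟩ : (⊤ : Subgroup G)) ∈
          MulAction.stabilizer (⊤ : Subgroup G) e :=
        MulAction.mem_stabilizer_iff.2 ((hstab x 1).2 (by rw [cj_one]; exact hx.1))
      have h' := (Subgroup.eq_bot_iff_forall _).1 h _ hmem
      exact hx1 (Subtype.ext (congrArg (fun z : (⊤ : Subgroup G) => (z : G)) h'))

/-- The classification. -/
theorem Hyp.classify [IsSimpleGroup G] (H : Hyp G) (hna : ¬ IsMulCommutative G) :
    (∃ (F : Type) (_ : Field F) (_ : Fintype F),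
      Nonempty (G ≃* Matrix.ProjectiveSpecialLinearGroup (Fin 2) F)) ∨ Cfsg.IsSuzuki G := by
  rcases H.dichotomy hna (CfsgLib.Involution.SelfCentNoncyclic.two_dvd_card hna) with
    ⟨V, hV, hC⟩ | ⟨D, hD, hD1, hH⟩
  · exact Or.inl (H.psl_of_self_centralizing hna hV hC)
  · exact Cfsg.Agent.S0340.result (H.isZassenhaus hna hD hD1 hH)

end CfsgLib.Recognition.PrimeOrders
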