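import Cfsg.Agent.Lib.Recognition.PrimeOrders.Local
import Cfsg.Prelude.Def_Involutions

/-!
A simple group whose involution centralisers are 2-groups and whose 2-local subgroups have order
`2^a * r` has a self-centralising four-group or a strongly embedded 2-local subgroup.
-/

set_option autoImplicit false

open Subgroup

namespace CfsgLib.Recognition.PrimeOrders

variable {G : Type*} [Group G]

theorem centralizer_cj (g : G) (V : Subgroup G) :
    centralizer (cj g V : Set G) = cj g (centralizer (V : Set G)) := by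
  ext x
  rw [mem_cj, Subgroup.mem_centralizer_iff, Subgroup.mem_centralizer_iff]
  constructor
  · intro h v hv
    have h' := h _ (conj_mem_cj hv)
    calc v * (g⁻¹ * x * g) = g⁻¹ * ((g * v * g⁻¹) * x) * g := by group
      _ = g⁻¹ * x * g * v := by rw [h']; group
  · intro h v hv
    rw [SetLike.mem_coe, mem_cj] at hv
    have h' := h _ hv
    calc v * x = g * ((g⁻¹ * v * g) * (g⁻¹ * x * g)) * g⁻¹ := by group
      _ = x * v := by rw [h']; group

theorem Natural.cj {V : Subgroup G} (h : Natural V) (g : G) : Natural (PrimeOrders.cj g V) := by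
  refine ⟨(card_cj g V).trans h.card, ?_, ?_, ?_, ?_⟩
  · intro v hv
    rw [mem_cj] at hv
    calc v * v = g * ((g⁻¹ * v * g) * (g⁻¹ * v * g)) * g⁻¹ := by group
      _ = 1 := by rw [h.elem _ hv]; group
  · intro w hw hw2 hwc
    rw [centralizer_cj, mem_cj] at hw
    rw [mem_cj]
    refine h.self _ hw ?_ fun q hq => ?_
    · calc g⁻¹ * w * g * (g⁻¹ * w * g) = g⁻¹ * (w * w) * g := by group
        _ = 1 := by rw [hw2]; group
    · have h' := hwc _ ((centralizer_cj g V).symm ▸ conj_mem_cj (g := g) hq)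
      calc g⁻¹ * w * g * q = g⁻¹ * (w * (g * q * g⁻¹)) * g := by group
        _ = q * (g⁻¹ * w * g) := by rw [h']; group
  · obtain ⟨σ, hσ, h3⟩ := h.ord
    refine ⟨g * σ * g⁻¹, by rw [normalizer_cj]; exact conj_mem_cj hσ, ?_⟩
    rw [← h3]
    exact (MulAut.conj g).orderOf_eq σ
  · obtain ⟨s, hs, hsC, k, hk⟩ := h.even
    refine ⟨g * s * g⁻¹, by rw [normalizer_cj]; exact conj_mem_cj hs, ?_, k, ?_⟩
    · rw [centralizer_cj, mem_cj]
      simpa [mul_assoc] using hsC
    · rw [← hk]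
      exact (MulAut.conj g).orderOf_eq s

variable [Finite G]

/-- No two natural four-groups share a Sylow 2-subgroup of their normalisers. -/
def NoPair (G : Type*) [Group G] : Prop :=
  ∀ V V' T : Subgroup G, Natural V → Natural V' → IsSyl T (normalizer (V : Set G)) →
    IsSyl T (normalizer (V' : Set G)) → V' = V

theorem card_lt_of_lt {P R : Subgroup G} (h : P < R) : Nat.card P < Nat.card R :=
  lt_of_le_of_ne (Subgroup.card_le_of_le h.le) fun e =>
    h.ne (Subgroup.eq_of_le_of_card_ge h.le e.ge)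

theorem IsSyl.mono {T M N : Subgroup G} (h : IsSyl T N) (hTM : T ≤ M) (hMN : M ≤ N) : IsSyl T M :=
  ⟨hTM, h.2.1, fun P hP h2 => h.2.2 P (hP.trans hMN) h2⟩

theorem full_of_noPair (hNP : NoPair G) {V T : Subgroup G} (hV : Natural V)
    (hT : IsSyl T (normalizer (V : Set G))) : IsSyl T ⊤ := by
  obtain ⟨S, hTS, hS⟩ := exists_isSyl (le_top : T ≤ (⊤ : Subgroup G)) hT.2.1
  rcases eq_or_lt_of_le hTS with e | hlt
  · exact e ▸ hS
  exfalso
  obtain ⟨x, hx, hxT⟩ := SetLike.exists_of_lt (exists_normalizing hS.2.1 hlt)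
  have hxcj : cj x T = T := mem_normalizer_iff_cj.1 hx.2
  have hT' : IsSyl T (normalizer (cj x V : Set G)) := by
    rw [normalizer_cj]
    exact hxcj ▸ hT.cj x
  have hxN : x ∈ normalizer (V : Set G) :=
    mem_normalizer_iff_cj.2 (hNP V _ T hV (hV.cj x) hT hT')
  have hP : T = S ⊓ normalizer (V : Set G) := Subgroup.eq_of_le_of_card_ge (le_inf hTS hT.1)
    (hT.2.2 _ inf_le_right (hS.2.1.to_le inf_le_left))
  rw [hP] at hxT
  exact hxT ⟨hx.1, hxN⟩

/-- If `H₀ ⊇ S` contains the normalisers of the normal 2-subgroups of `S`, it contains those of all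
nontrivial subgroups of `S`. -/
theorem push (H : Hyp G) (hNP : NoPair G) {S H₀ : Subgroup G} (hS : IsSyl S ⊤) (hSH : S ≤ H₀)
    (base : ∀ D ≤ S, D ≠ ⊥ → S ≤ normalizer (D : Set G) → normalizer (D : Set G) ≤ H₀) :
    ∀ D ≤ S, D ≠ ⊥ → normalizer (D : Set G) ≤ H₀ := by
  have hSH₀ : IsSyl S H₀ := hS.mono hSH le_top
  suffices key : ∀ n, ∀ D : Subgroup G, D ≤ S → D ≠ ⊥ →
      Nat.card S - Nat.card ↥(S ⊓ normalizer (D : Set G)) = n → normalizer (D : Set G) ≤ H₀ from
    fun D hD hD1 => key _ D hD hD1 rfl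
  intro n
  induction n using Nat.strong_induction_on with
  | _ n ih =>
  intro D hDS hD1 hn
  have IH : ∀ E ≤ S, E ≠ ⊥ → Nat.card ↥(S ⊓ normalizer (D : Set G)) <
      Nat.card ↥(S ⊓ normalizer (E : Set G)) → normalizer (E : Set G) ≤ H₀ := by
    intro E hE hE1 hlt
    refine ih _ ?_ E hE hE1 rfl
    have h1 : Nat.card ↥(S ⊓ normalizer (E : Set G)) ≤ Nat.card S :=
      Subgroup.card_le_of_le inf_le_left
    omega
  set T₀ := S ⊓ normalizer (D : Set G) with hT₀
  rcases eq_or_lt_of_le (inf_le_left : T₀ ≤ S) with e | hlt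
  · exact base D hDS hD1 (e ▸ inf_le_right)
  have hT₀2 : IsPGroup 2 T₀ := hS.2.1.to_le inf_le_left
  have hDT₀ : D ≤ T₀ := le_inf hDS Subgroup.le_normalizer
  have hT₀1 : T₀ ≠ ⊥ := fun e => hD1 (le_bot_iff.1 (e ▸ hDT₀))
  have hlarge := exists_normalizing hS.2.1 hlt
  have hNT₀ : normalizer (T₀ : Set G) ≤ H₀ := IH T₀ inf_le_left hT₀1 (card_lt_of_lt hlarge)
  have step : ∀ X P : Subgroup G, X ≤ T₀ → X ≠ ⊥ → IsPGroup 2 P →
      P ≤ normalizer (X : Set G) → T₀ < P → normalizer (X : Set G) ≤ H₀ := by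
    intro X P hX hX1 hP hPN hTP
    set T₂ := P ⊓ normalizer (T₀ : Set G) with hT₂
    obtain ⟨h, hh, hle⟩ := hSH₀.conj_le (inf_le_right.trans hNT₀ : T₂ ≤ H₀) (hP.to_le inf_le_left)
    have hXT₂ : X ≤ T₂ := hX.trans (exists_normalizing hP hTP).le
    have hsub : cj h T₂ ≤ S ⊓ normalizer (cj h X : Set G) := by
      refine le_inf hle ?_
      rw [normalizer_cj]
      exact cj_mono (inf_le_left.trans hPN)
    have h1 : normalizer (cj h X : Set G) ≤ H₀ := by
      refine IH _ ((cj_mono hXT₂).trans hle) (cj_ne_bot hX1) ?_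
      calc Nat.card T₀ < Nat.card T₂ := card_lt_of_lt (exists_normalizing hP hTP)
        _ = Nat.card (cj h T₂) := (card_cj h T₂).symm
        _ ≤ _ := Subgroup.card_le_of_le hsub
    intro x hx
    have h2 : h * x * h⁻¹ ∈ H₀ := h1 (by rw [normalizer_cj]; exact conj_mem_cj hx)
    have h3 := H₀.mul_mem (H₀.mul_mem (H₀.inv_mem hh) h2) hh
    simpa [mul_assoc] using h3
  obtain ⟨T, hT₀T, hT⟩ := exists_isSyl (inf_le_right : T₀ ≤ normalizer (D : Set G)) hT₀2
  rcases eq_or_lt_of_le hT₀T with e | hlt'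
  swap
  · exact step D T hDT₀ hD1 hT.2.1 hT.1 hlt'
  rw [← e] at hT
  rcases H.local_cases (hS.2.1.to_le hDS) hD1 hT with hJ | ⟨V, hV, hVT, hDV⟩
  · refine hJ.trans (IH (J T₀) (J_le.trans inf_le_left) (J_ne_bot hT₀2 hT₀1) ?_)
    refine lt_of_lt_of_le (card_lt_of_lt hlarge) (Subgroup.card_le_of_le ?_)
    exact inf_le_inf_left _ (normalizer_le_normalizer_J T₀)
  · refine hDV.trans ?_
    by_cases hbig : Nat.card T₀ < Nat.card ↥(S ⊓ normalizer (V : Set G))
    · exact IH V (hVT.trans inf_le_left) hV.ne_bot hbig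
    obtain ⟨P, hTP, hP⟩ := exists_isSyl (hT.1.trans hDV) hT₀2
    refine step V P hVT hV.ne_bot hP.2.1 hP.1 (lt_of_le_of_ne hTP fun e' => ?_)
    have h1 := (full_of_noPair hNP hV hP).2.2 S le_top hS.2.1
    rw [← e'] at h1
    exact absurd (card_lt_of_lt hlt) (not_lt.2 h1)

theorem not_isPGroup_of_simple [IsSimpleGroup G] (hna : ¬ IsMulCommutative G)
    (h2 : IsPGroup 2 (⊤ : Subgroup G)) : False := by
  haveI : Fact (Nat.Prime 2) := ⟨Nat.prime_two⟩
  have hG : IsPGroup 2 G := h2.of_equiv Subgroup.topEquiv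
  haveI : Nontrivial G := IsSimpleGroup.toNontrivial
  haveI := hG.center_nontrivial
  rcases (inferInstance : (Subgroup.center G).Normal).eq_bot_or_eq_top with h | h
  · exact absurd h ((Subgroup.nontrivial_iff_ne_bot _).1 inferInstance)
  · exact hna ⟨⟨fun a b => (Subgroup.mem_center_iff.1 (h ▸ Subgroup.mem_top b) a)⟩⟩

/-- A subgroup containing all normalisers of nontrivial subgroups of a Sylow 2-subgroup is strongly
embedded. -/
theorem stronglyEmbedded_of_push {S H₀ : Subgroup G} (hS : IsSyl S ⊤) (hS1 : S ≠ ⊥) (hSH : S ≤ H₀)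
    (hne : H₀ ≠ ⊤) (hpush : ∀ D ≤ S, D ≠ ⊥ → normalizer (D : Set G) ≤ H₀) :
    Cfsg.IsStronglyEmbedded H₀ := by
  haveI : Fact (Nat.Prime 2) := ⟨Nat.prime_two⟩
  have hSH₀ : IsSyl S H₀ := hS.mono hSH le_top
  refine ⟨hne, ?_, fun g hg => ?_⟩
  · haveI : Nontrivial S := (Subgroup.nontrivial_iff_ne_bot S).2 hS1
    obtain ⟨k, hk, hk'⟩ := hS.2.1.nontrivial_iff_card.1 inferInstance
    exact even_iff_two_dvd.2 ((hk' ▸ dvd_pow_self 2 hk.ne').trans (Subgroup.card_dvd_of_le hSH))
  by_contra hodd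
  set I := H₀ ⊓ cj g H₀ with hI
  have hev : 2 ∣ Nat.card I := even_iff_two_dvd.1 (Nat.not_odd_iff_even.1 hodd)
  obtain ⟨t, ht⟩ := exists_prime_orderOf_dvd_card' (G := I) 2 hev
  have ht2 : orderOf (t : G) = 2 := by rw [Subgroup.orderOf_coe, ht]
  have hz2 : IsPGroup 2 (zpowers (t : G)) := IsPGroup.of_card (n := 1) (by rw [Nat.card_zpowers, ht2]; rfl)
  obtain ⟨T, htT, hT⟩ := exists_isSyl (zpowers_le.2 t.2 : zpowers (t : G) ≤ I) hz2
  have hT1 : T ≠ ⊥ := fun e => by
    have h := htT (mem_zpowers (t : G))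
    rw [e, Subgroup.mem_bot] at h
    rw [h, orderOf_one] at ht2
    omega
  obtain ⟨h, hh, hle⟩ := hSH₀.conj_le (hT.1.trans inf_le_left) hT.2.1
  have hN1 : normalizer (T : Set G) ≤ H₀ := by
    intro x hx
    have h2 : h * x * h⁻¹ ∈ H₀ :=
      hpush _ hle (cj_ne_bot hT1) (by rw [normalizer_cj]; exact conj_mem_cj hx)
    simpa [mul_assoc] using H₀.mul_mem (H₀.mul_mem (H₀.inv_mem hh) h2) hh
  have hTg : cj g⁻¹ T ≤ H₀ := by
    have := cj_mono (g := g⁻¹) (hT.1.trans inf_le_right)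
    rwa [cj_inv_cj] at this
  obtain ⟨h', hh', hle'⟩ := hSH₀.conj_le hTg (isPGroup_cj hT.2.1)
  rw [cj_cj] at hle'
  have hN2 : normalizer (T : Set G) ≤ cj g H₀ := by
    intro x hx
    rw [mem_cj]
    have h2 : (h' * g⁻¹) * x * (h' * g⁻¹)⁻¹ ∈ H₀ :=
      hpush _ hle' (cj_ne_bot hT1) (by rw [normalizer_cj]; exact conj_mem_cj hx)
    have h3 := H₀.mul_mem (H₀.mul_mem (H₀.inv_mem hh') h2) hh'
    simpa [mul_assoc] using h3
  obtain ⟨S₁, hTS₁, hS₁⟩ := exists_isSyl (le_top : T ≤ (⊤ : Subgroup G)) hT.2.1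
  have hTS : Nat.card S ≤ Nat.card T := by
    rcases eq_or_lt_of_le hTS₁ with e | hlt
    · exact e ▸ hS₁.2.2 S le_top hS.2.1
    · exfalso
      have h1 := card_lt_of_lt (exists_normalizing hS₁.2.1 hlt)
      have h2 : Nat.card ↥(S₁ ⊓ normalizer (T : Set G)) ≤ Nat.card T :=
        hT.2.2 _ (inf_le_right.trans (le_inf hN1 hN2)) (hS₁.2.1.to_le inf_le_left)
      omega
  have e1 : cj h T = S := Subgroup.eq_of_le_of_card_ge hle (by rw [card_cj]; exact hTS)
  have e2 : cj (h' * g⁻¹) T = S := Subgroup.eq_of_le_of_card_ge hle' (by rw [card_cj]; exact hTS)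
  have e3 : cj (h' * g⁻¹ * h⁻¹) S = S := by
    conv_lhs => rw [← e1]
    rw [cj_cj, inv_mul_cancel_right, e2]
  have h4 : h' * g⁻¹ * h⁻¹ ∈ H₀ := hpush S le_rfl hS1 (mem_normalizer_iff_cj.2 e3)
  have h5 := H₀.inv_mem (H₀.mul_mem (H₀.mul_mem (H₀.inv_mem hh') h4) hh)
  exact hg (by simpa [mul_assoc] using h5)

/-- The main dichotomy. -/
theorem Hyp.dichotomy [IsSimpleGroup G] (H : Hyp G) (hna : ¬ IsMulCommutative G)
    (heven : 2 ∣ Nat.card G) :
    (∃ V : Subgroup G, Natural V ∧ centralizer (V : Set G) = V) ∨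
      ∃ D : Subgroup G, IsPGroup 2 D ∧ D ≠ ⊥ ∧ Cfsg.IsStronglyEmbedded (normalizer (D : Set G)) := by
  classical
  by_cases hNP : NoPair G
  swap
  · unfold NoPair at hNP
    push Not at hNP
    obtain ⟨V, V', T, hV, hV', hT, hT', hne⟩ := hNP
    exact Or.inl ⟨V, hV, H.self_centralizing_of_pair hV hV' hne hT hT'⟩
  right
  haveI : Fact (Nat.Prime 2) := ⟨Nat.prime_two⟩
  obtain ⟨S, -, hS⟩ := exists_isSyl (le_top : (⊥ : Subgroup G) ≤ ⊤) IsPGroup.of_bot
  have hS1 : S ≠ ⊥ := fun e => by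
    obtain ⟨t, ht⟩ := exists_prime_orderOf_dvd_card' (G := G) 2 heven
    have := hS.2.2 (zpowers t) le_top (IsPGroup.of_card (n := 1) (by rw [Nat.card_zpowers, ht]; rfl))
    rw [e, Subgroup.card_bot, Nat.card_zpowers, ht] at this
    omega
  have hproper : ∀ W : Subgroup G, IsPGroup 2 W → W ≠ ⊥ → normalizer (W : Set G) ≠ ⊤ := by
    intro W hW hW1 e
    haveI : W.Normal := Subgroup.normalizer_eq_top_iff.1 e
    rcases (inferInstance : W.Normal).eq_bot_or_eq_top with h | h
    · exact hW1 h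
    · exact not_isPGroup_of_simple hna (h ▸ hW)
  have hJ2 : IsPGroup 2 (J S) := hS.2.1.to_le J_le
  have hJ1 : J S ≠ ⊥ := J_ne_bot hS.2.1 hS1
  have hSJ : S ≤ normalizer (J S : Set G) := Subgroup.le_normalizer.trans (normalizer_le_normalizer_J S)
  have hsylD : ∀ D : Subgroup G, S ≤ normalizer (D : Set G) → IsSyl S (normalizer (D : Set G)) :=
    fun D h => hS.mono h le_top
  by_cases hexc : ∃ V, Natural V ∧ V ≤ S ∧ S ≤ normalizer (V : Set G) ∧
      ∃ A, IsMax S A ∧ ¬ A ≤ centralizer (V : Set G)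
  · obtain ⟨V, hV, hVS, hSV, A, hA, hAQ⟩ := hexc
    set Q := centralizer (V : Set G) with hQ
    have hsyl := hsylD V hSV
    have hQS : Q ≤ S := hV.centralizer_le_syl H hsyl
    have hJV : normalizer (J S : Set G) ≤ normalizer (V : Set G) := by
      set M := normalizer (J S : Set G) with hM
      -- `M` has no nontrivial element of odd order
      suffices hodd : ∀ d ∈ M, Odd (orderOf d) → d = 1 by
        have hM2 : IsPGroup 2 M := by
          rintro ⟨x, hx⟩
          obtain ⟨k, m, hm, hkm⟩ := Nat.exists_eq_two_pow_mul_odd (orderOf_pos x).ne'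
          refine ⟨k, Subtype.ext (hodd (x ^ 2 ^ k) (M.pow_mem hx _) ?_)⟩
          rw [orderOf_pow' _ (by positivity), hkm, Nat.gcd_eq_right (Dvd.intro _ rfl),
            Nat.mul_div_cancel_left _ (by positivity)]
          exact hm
        have hMS : S = M := Subgroup.eq_of_le_of_card_ge hSJ ((hsylD (J S) hSJ).2.2 M le_rfl hM2)
        exact hMS ▸ hSV
      intro d hd hdo
      by_contra hd1
      set Q₀ := O2 M with hQ₀
      have hsylM := hsylD (J S) hSJ
      have hQ₀S : Q₀ ≤ S := O2_le_syl hsylM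
      have hAQ₀ : A ≤ Q₀ := (le_sSup hA : A ≤ J S).trans
        (le_O2 Subgroup.le_normalizer (fun m hm n hn => (Subgroup.mem_normalizer_iff.1 hm n).1 hn) hJ2)
      obtain ⟨a, haA, haQ⟩ := SetLike.not_le_iff_exists.1 hAQ
      have haS : a ∈ S := hA.1 haA
      have hidx : (Q.subgroupOf S).index = 2 := by
        have := Subgroup.card_mul_index (Q.subgroupOf S)
        rw [Nat.card_congr (Subgroup.subgroupOfEquivOfLe hQS).toEquiv, hV.card_syl H hsyl,
          mul_comm 2] at this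
        exact Nat.eq_of_mul_eq_mul_left Nat.card_pos this
      have hQ₀2 : IsPGroup 2 Q₀ := O2_isPGroup M
      have hQ₀1 : Q₀ ≠ ⊥ := fun e => haQ (by
        have := hAQ₀ haA
        rw [e, Subgroup.mem_bot] at this
        rw [this]; exact Q.one_mem)
      have hfixM : ∀ d ∈ M, d ≠ 1 → Odd (orderOf d) → ∀ q ∈ Q₀, d * q = q * d → q = 1 := by
        intro d _ hd1 hdo q hq e
        by_contra hq1
        exact hd1 (H.eq_one_of_commute hQ₀2 hq hq1 hdo e)
      by_cases hVQ₀ : V ≤ Q₀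
      · set V₀ := omz Q₀ with hV₀
        have hV₀Q : V₀ ≤ Q := fun w hw =>
          Subgroup.mem_centralizer_iff.2 fun v hv => (hw.2.2 v (hVQ₀ hv)).symm
        obtain ⟨σ, hσN, hσ3, hσQ, hσfix⟩ := hV.exists_sigma H
        have hQn : ∀ q ∈ Q, ∀ u ∈ V₀, q * u * q⁻¹ ∈ V₀ := fun q hq u hu =>
          omz_conj (O2_conj (M := M)) q (hSJ (hQS hq)) u hu
        -- elements of `V₀` central in `Q` are central in `S`
        have hcent : ∀ u ∈ V₀, (∀ q ∈ Q, q * u = u * q) → ∀ t ∈ S, t * u = u * t := by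
          intro u hu hc t ht
          by_cases htQ : t ∈ Q
          · exact hc t htQ
          · have hq : a⁻¹ * t ∈ Q := (Subgroup.mul_mem_iff_of_index_two hidx
              (a := (⟨a, haS⟩ : S)⁻¹) (b := ⟨t, ht⟩)).2
              ⟨fun e => absurd ((Q.subgroupOf S).inv_mem_iff.1 e) haQ, fun e => absurd e htQ⟩
            have hau : u * a = a * u := hu.2.2 a (hAQ₀ haA)
            calc t * u = a * ((a⁻¹ * t) * u) := by group
              _ = (a * u) * (a⁻¹ * t) := by rw [hc _ hq]; group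
              _ = u * t := by rw [← hau]; group
        have hinf : ∀ u ∈ V₀, σ * u * σ⁻¹ ∈ V₀ → u = 1 := by
          by_contra hcon
          push Not at hcon
          obtain ⟨u, hu, hσu, hu1⟩ := hcon
          set W := V₀ ⊓ cj σ V₀ with hW
          have hWQ : W ≤ Q := inf_le_left.trans hV₀Q
          have hW1 : W ≠ ⊥ := fun e => hu1 (by
            have hmem : σ * u * σ⁻¹ ∈ W := ⟨hσu, conj_mem_cj hu⟩
            rw [e, Subgroup.mem_bot] at hmem
            simpa using hmem)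
          haveI hWn : (W.subgroupOf Q).Normal := ⟨fun w hw q => by
            refine ⟨hQn q q.2 w hw.1, mem_cj.2 ?_⟩
            have h1 : σ⁻¹ * (q : G) * σ ∈ Q := by
              have h1 := Natural.centralizer_conj ((normalizer (V : Set G)).inv_mem hσN) q.2
              rwa [inv_inv] at h1
            have := hQn _ h1 _ (mem_cj.1 hw.2)
            simpa [mul_assoc] using this⟩
          have hWp : W.subgroupOf Q ≠ ⊥ := by
            rw [ne_eq, Subgroup.subgroupOf_eq_bot, disjoint_iff, inf_eq_left.2 hWQ]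
            exact hW1
          haveI := (hV.centralizer_isPGroup H).isNilpotent
          obtain ⟨⟨w, hw⟩, hw1⟩ : ∃ w : ↥(W.subgroupOf Q ⊓ center ↥Q), w ≠ 1 := by
            have hne' := CfsgLib.Solvable.FrattiniFitting.inf_center_ne_bot (W.subgroupOf Q) hWp
            by_contra h'
            push Not at h'
            exact hne' ((Subgroup.eq_bot_iff_forall _).2 fun x hx =>
              congrArg Subtype.val (h' ⟨x, hx⟩))
          have hwc : ∀ q ∈ Q, q * (w : G) = w * q := fun q hq =>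
            congrArg Subtype.val (Subgroup.mem_center_iff.1 hw.2 ⟨q, hq⟩)
          have hwσ : σ⁻¹ * (w : G) * σ ∈ V₀ := mem_cj.1 hw.1.2
          refine hw1 (Subtype.ext (Subtype.ext (hV.eq_one_of_commute_conj H hsyl hσN hσ3 w.2
            (hcent _ hw.1.1 hwc) fun t ht => ?_)))
          have h1 := hcent _ hwσ (fun q hq => by
            have h := hwc _ (hσQ q hq)
            calc q * (σ⁻¹ * (w : G) * σ) = σ⁻¹ * ((σ * q * σ⁻¹) * w) * σ := by group
              _ = σ⁻¹ * (w : G) * σ * q := by rw [h]; group) t ht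
          calc σ * t * σ⁻¹ * (w : G) = σ * (t * (σ⁻¹ * (w : G) * σ)) * σ⁻¹ := by group
            _ = (w : G) * (σ * t * σ⁻¹) := by rw [h1]; group
        have hcomm := centralizes_of_inf_conj Q V₀ (by rw [← hσ3, pow_orderOf_eq_one]) hσQ hσfix
          hV₀Q hQn hinf
        obtain ⟨z, hzV, hz1, hzS, huniq⟩ := hV.exists_fixed H hsyl
        have hV₀z : ∀ u ∈ V₀, u = 1 ∨ u = z := fun u hu =>
          huniq u (hV.self u (hV₀Q hu) hu.2.1 fun q hq => (hcomm q hq u hu).symm)
            (hcent u hu fun q hq => hcomm q hq u hu)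
        obtain ⟨⟨u, hu⟩, hu1⟩ : ∃ u : V₀, u ≠ 1 := by
          by_contra h'
          push Not at h'
          exact omz_ne_bot hQ₀2 hQ₀1 ((Subgroup.eq_bot_iff_forall _).2 fun x hx =>
            congrArg Subtype.val (h' ⟨x, hx⟩))
        have huz : u = z := (hV₀z u hu).resolve_left fun e => hu1 (Subtype.ext e)
        have hdu : d * u * d⁻¹ ∈ V₀ := omz_conj (O2_conj (M := M)) d hd u hu
        rcases hV₀z _ hdu with e | e
        · exact hu1 (Subtype.ext (by simpa using e))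
        · exact hu1 (Subtype.ext (hfixM d hd hd1 hdo u (omz_le Q₀ hu)
            (mul_inv_eq_iff_eq_mul.1 (e.trans huz.symm))))
      · obtain ⟨v, hv, hvQ₀⟩ := SetLike.not_le_iff_exists.1 hVQ₀
        have hv2 : orderOf v = 2 :=
          orderOf_eq_prime (by rw [pow_two]; exact hV.elem v hv) fun e => hvQ₀ (e ▸ Q₀.one_mem)
        obtain ⟨hle, -⟩ := card_le_relIndex_sq M Q₀ (O2_le M) (O2_conj (M := M)) (hSJ (hVS hv)) hv2
          (fun N hN hn h2 hmem => hvQ₀ (le_O2 hN hn h2 hmem)) hfixM Q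
          (fun x hx => Subgroup.mem_centralizer_iff.1 hx v hv)
        have hrel : Q.relIndex Q₀ ≤ 2 :=
          (Subgroup.relIndex_le_of_le_right hQ₀S
            (Subgroup.index_ne_zero_of_finite (H := Q.subgroupOf S))).trans hidx.le
        have h4 : Nat.card A ≤ 4 := (Subgroup.card_le_of_le hAQ₀).trans (hle.trans (by
          calc Q.relIndex Q₀ ^ 2 ≤ 2 ^ 2 := Nat.pow_le_pow_left hrel 2
            _ = 4 := rfl))
        have hVmax : IsMax S V :=
          ⟨hVS, hV.elem, fun B hB hB' => (hA.2.2 B hB hB').trans (h4.trans hV.card.ge)⟩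
        exact hvQ₀ (((le_sSup hVmax : V ≤ J S).trans
          (le_O2 Subgroup.le_normalizer (fun m hm n hn => (Subgroup.mem_normalizer_iff.1 hm n).1 hn)
            hJ2)) hv)
    refine ⟨V, hV.elem.isPGroup, hV.ne_bot, stronglyEmbedded_of_push hS hS1 hSV
      (hproper V hV.elem.isPGroup hV.ne_bot) (push H hNP hS hSV fun D hD hD1 hSD => ?_)⟩
    rcases H.local_cases (hS.2.1.to_le hD) hD1 (hsylD D hSD) with h | ⟨V', hV', -, hDV'⟩
    · exact h.trans hJV
    · rwa [hNP V V' S hV hV' hsyl (hsylD V' (hSD.trans hDV'))] at hDV'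
  · refine ⟨J S, hJ2, hJ1, stronglyEmbedded_of_push hS hS1 hSJ (hproper _ hJ2 hJ1)
      (push H hNP hS hSJ fun D hD hD1 hSD => ?_)⟩
    rcases H.local_cases (hS.2.1.to_le hD) hD1 (hsylD D hSD) with h | ⟨V', hV', hV'S, hDV'⟩
    · exact h
    · have hSV' : S ≤ normalizer (V' : Set G) := hSD.trans hDV'
      have hall : ∀ A, IsMax S A → A ≤ centralizer (V' : Set G) := fun A hA => by
        by_contra hA'
        exact hexc ⟨V', hV', hV'S, hSV', A, hA, hA'⟩
      refine hDV'.trans ?_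
      rw [J_eq_of_le (hV'.centralizer_le_syl H (hsylD V' hSV')) hall]
      refine le_trans (fun m hm => ?_) (normalizer_le_normalizer_J (centralizer (V' : Set G)))
      rw [mem_normalizer_iff_cj, ← centralizer_cj, mem_normalizer_iff_cj.1 hm]

end CfsgLib.Recognition.PrimeOrders
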