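import Cfsg.Agent.Lib.Recognition.PrimeOrders.Fpf
import Cfsg.Agent.Lib.Solvable.Cores
import Cfsg.Prelude.Def_Solvable

/-!
Groups in which every involution centraliser is a 2-group and every 2-local subgroup has order
`2^a * r` with `r` one or an odd prime: vocabulary and first lemmas.
-/

set_option autoImplicit false

open Subgroup

namespace CfsgLib.Recognition.PrimeOrders

variable (G : Type*) [Group G]

/-- The hypothesis on involution centralisers and 2-local subgroups. -/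
structure Hyp : Prop where
  cit : ∀ t : G, orderOf t = 2 → IsPGroup 2 ↥(centralizer ({t} : Set G))
  locals : ∀ D : Subgroup G, IsPGroup 2 D → D ≠ ⊥ →
    ∃ a r : ℕ, (r = 1 ∨ r.Prime) ∧ Odd r ∧ Nat.card ↥(normalizer (D : Set G)) = 2 ^ a * r

variable {G}

/-- The conjugate `g K g⁻¹`. -/
def cj (g : G) (K : Subgroup G) : Subgroup G := K.map (MulAut.conj g).toMonoidHom

theorem mem_cj {g x : G} {K : Subgroup G} : x ∈ cj g K ↔ g⁻¹ * x * g ∈ K := by
  constructor
  · rintro ⟨k, hk, rfl⟩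
    simpa [MulAut.conj_apply, mul_assoc] using hk
  · intro h
    exact ⟨_, h, by simp [MulAut.conj_apply, mul_assoc]⟩

theorem conj_mem_cj {g x : G} {K : Subgroup G} (hx : x ∈ K) : g * x * g⁻¹ ∈ cj g K :=
  ⟨x, hx, rfl⟩

theorem cj_mono {g : G} {K L : Subgroup G} (h : K ≤ L) : cj g K ≤ cj g L :=
  Subgroup.map_mono h

theorem card_cj (g : G) (K : Subgroup G) : Nat.card (cj g K) = Nat.card K :=
  Nat.card_congr (K.equivMapOfInjective _ (MulAut.conj g).injective).symm.toEquiv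

theorem cj_cj (g h : G) (K : Subgroup G) : cj g (cj h K) = cj (g * h) K :=
  CfsgLib.Involution.BaerSuzuki.map_conj_conj K h g

theorem cj_one (K : Subgroup G) : cj 1 K = K := by ext x; simp [mem_cj]

theorem cj_inv_cj (g : G) (K : Subgroup G) : cj g⁻¹ (cj g K) = K := by
  rw [cj_cj, inv_mul_cancel, cj_one]

theorem cj_cj_inv (g : G) (K : Subgroup G) : cj g (cj g⁻¹ K) = K := by
  rw [cj_cj, mul_inv_cancel, cj_one]

theorem mem_normalizer_iff_cj {g : G} {K : Subgroup G} :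
    g ∈ normalizer (K : Set G) ↔ cj g K = K := by
  constructor
  · intro h
    ext x
    rw [mem_cj]
    have := (Subgroup.mem_normalizer_iff.1 ((normalizer (K : Set G)).inv_mem h) x).symm
    rwa [inv_inv] at this
  · intro h
    rw [Subgroup.mem_normalizer_iff]
    intro x
    constructor
    · intro hx
      exact h ▸ conj_mem_cj hx
    · intro hx
      have hx' : g * x * g⁻¹ ∈ cj g K := by rw [h]; exact hx
      rw [mem_cj] at hx'
      simpa [mul_assoc] using hx'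

theorem isPGroup_cj {g : G} {K : Subgroup G} (h : IsPGroup 2 K) : IsPGroup 2 (cj g K) :=
  h.map _

theorem cj_ne_bot {g : G} {K : Subgroup G} (h : K ≠ ⊥) : cj g K ≠ ⊥ := by
  rwa [cj, ne_eq, Subgroup.map_eq_bot_iff_of_injective _ (MulAut.conj g).injective]

theorem normalizer_cj (g : G) (K : Subgroup G) :
    normalizer (cj g K : Set G) = cj g (normalizer (K : Set G)) := by
  ext x
  rw [mem_normalizer_iff_cj, mem_cj, mem_normalizer_iff_cj, cj_cj]
  constructor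
  · intro h
    rw [← cj_cj, ← cj_cj, cj_cj x g, h, cj_inv_cj]
  · intro h
    have := congrArg (cj g) h
    rw [cj_cj] at this
    simpa [mul_assoc] using this

/-- A nontrivial element of a 2-group commutes with no nontrivial element of odd order. -/
theorem Hyp.eq_one_of_commute [Finite G] (H : Hyp G) {P : Subgroup G} (hP : IsPGroup 2 P) {x d : G}
    (hx : x ∈ P) (hx1 : x ≠ 1) (hd : Odd (orderOf d)) (h : d * x = x * d) : d = 1 := by
  obtain ⟨k, hk⟩ := hP ⟨x, hx⟩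
  have hk' : x ^ 2 ^ k = 1 := congrArg Subtype.val hk
  obtain ⟨j, -, hj⟩ := (Nat.dvd_prime_pow Nat.prime_two).1 (orderOf_dvd_of_pow_eq_one hk')
  obtain ⟨i, rfl⟩ : ∃ i, j = i + 1 := by
    refine ⟨j - 1, ?_⟩
    rcases Nat.eq_zero_or_pos j with rfl | h0
    · exact absurd (orderOf_eq_one_iff.1 (by rw [hj, pow_zero])) hx1
    · omega
  set t := x ^ 2 ^ i with ht
  have ht2 : orderOf t = 2 := by
    rw [ht, orderOf_pow' _ (by positivity), hj, pow_succ,
      Nat.gcd_eq_right (Dvd.intro _ rfl), Nat.mul_div_cancel_left _ (by positivity)]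
  have hdC : d ∈ centralizer ({t} : Set G) := by
    rw [Subgroup.mem_centralizer_singleton_iff]
    exact (Commute.pow_right h _)
  obtain ⟨m, hm⟩ := H.cit t ht2 ⟨d, hdC⟩
  have hm' : orderOf d ∣ 2 ^ m := orderOf_dvd_of_pow_eq_one (congrArg Subtype.val hm)
  obtain ⟨l, -, hl⟩ := (Nat.dvd_prime_pow Nat.prime_two).1 hm'
  refine orderOf_eq_one_iff.1 ?_
  rcases Nat.eq_zero_or_pos l with rfl | h0
  · rwa [pow_zero] at hl
  · rw [hl, Nat.odd_pow_iff h0.ne'] at hd
    exact absurd hd (by decide)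

/-- The centraliser of a nontrivial 2-subgroup is a 2-group. -/
theorem Hyp.centralizer_isPGroup [Finite G] (H : Hyp G) {P : Subgroup G} (hP : IsPGroup 2 P)
    (hP1 : P ≠ ⊥) : IsPGroup 2 ↥(centralizer (P : Set G)) := by
  obtain ⟨⟨x, hx⟩, hx1⟩ := exists_ne_one_of_ne_bot hP1
  rintro ⟨c, hc⟩
  obtain ⟨k, m, hm, hkm⟩ := Nat.exists_eq_two_pow_mul_odd (orderOf_pos c).ne'
  refine ⟨k, Subtype.ext ?_⟩
  show c ^ 2 ^ k = 1
  refine H.eq_one_of_commute hP hx (fun h => hx1 (Subtype.ext h)) ?_ ?_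
  · rw [orderOf_pow' _ (by positivity), hkm, Nat.gcd_eq_right (Dvd.intro _ rfl),
      Nat.mul_div_cancel_left _ (by positivity)]
    exact hm
  · exact (Commute.pow_left (hc x hx).symm _)
where
  exists_ne_one_of_ne_bot {P : Subgroup G} (h : P ≠ ⊥) : ∃ x : P, x ≠ 1 := by
    by_contra h'
    push Not at h'
    exact h ((Subgroup.eq_bot_iff_forall P).2 fun x hx => congrArg Subtype.val (h' ⟨x, hx⟩))

/-- A 2-subgroup of `M` of maximal order. -/
def IsSyl (T M : Subgroup G) : Prop :=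
  T ≤ M ∧ IsPGroup 2 T ∧ ∀ P ≤ M, IsPGroup 2 P → Nat.card P ≤ Nat.card T

theorem exists_isSyl [Finite G] {P M : Subgroup G} (hPM : P ≤ M) (hP : IsPGroup 2 P) :
    ∃ T, P ≤ T ∧ IsSyl T M := by
  haveI : Fact (Nat.Prime 2) := ⟨Nat.prime_two⟩
  obtain ⟨S, hS⟩ := (hP.comap_of_injective M.subtype M.subtype_injective).exists_le_sylow
  refine ⟨(S : Subgroup M).map M.subtype, fun x hx => ⟨⟨x, hPM hx⟩, hS hx, rfl⟩,
    Subgroup.map_subtype_le _, S.isPGroup'.map _, fun P' hP'M hP' => ?_⟩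
  obtain ⟨k, hk⟩ := IsPGroup.iff_card.1 hP'
  rw [Nat.card_congr ((S : Subgroup M).equivMapOfInjective _ M.subtype_injective).symm.toEquiv,
    S.card_eq_multiplicity, hk]
  refine Nat.pow_le_pow_right two_pos ?_
  refine (Nat.prime_two.pow_dvd_iff_le_factorization Nat.card_pos.ne').1 ?_
  rw [← hk]
  exact Subgroup.card_dvd_of_le hP'M

theorem IsSyl.conj_le [Finite G] {T M P : Subgroup G} (h : IsSyl T M) (hPM : P ≤ M)
    (hP : IsPGroup 2 P) : ∃ m ∈ M, cj m P ≤ T := by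
  haveI : Fact (Nat.Prime 2) := ⟨Nat.prime_two⟩
  obtain ⟨ST, hST⟩ := (h.2.1.comap_of_injective M.subtype M.subtype_injective).exists_le_sylow
  obtain ⟨SP, hSP⟩ := (hP.comap_of_injective M.subtype M.subtype_injective).exists_le_sylow
  obtain ⟨m, hm⟩ := MulAction.exists_smul_eq M SP ST
  have hT : (ST : Subgroup M).map M.subtype = T := by
    have hle : T ≤ (ST : Subgroup M).map M.subtype := fun x hx => ⟨⟨x, h.1 hx⟩, hST hx, rfl⟩
    refine (Subgroup.eq_of_le_of_card_ge hle ?_).symm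
    exact h.2.2 _ (Subgroup.map_subtype_le _) (ST.isPGroup'.map _)
  refine ⟨m, m.2, fun x hx => ?_⟩
  rw [mem_cj] at hx
  have h1 : (⟨_, hPM hx⟩ : M) ∈ (SP : Subgroup M) := hSP hx
  have h2 : m * (⟨_, hPM hx⟩ : M) * m⁻¹ ∈ (ST : Subgroup M) := by
    rw [← hm]
    exact ⟨_, h1, rfl⟩
  rw [← hT]
  exact ⟨_, h2, by simp [mul_assoc]⟩

theorem IsSyl.cj {T M : Subgroup G} (h : IsSyl T M) (g : G) : IsSyl (cj g T) (cj g M) := by
  refine ⟨cj_mono h.1, isPGroup_cj h.2.1, fun P hP h2 => ?_⟩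
  have := h.2.2 (PrimeOrders.cj g⁻¹ P) (by simpa [cj_inv_cj] using cj_mono (g := g⁻¹) hP) (isPGroup_cj h2)
  rwa [card_cj, ← card_cj g T] at this

/-- The 2-core of a subgroup, as a subgroup of the whole group. -/
def O2 (M : Subgroup G) : Subgroup G := (Cfsg.pCore 2 ↥M).map M.subtype

theorem O2_le (M : Subgroup G) : O2 M ≤ M := Subgroup.map_subtype_le _

theorem O2_isPGroup (M : Subgroup G) : IsPGroup 2 (O2 M) :=
  (CfsgLib.Solvable.Cores.isPGroup_pCore 2).map _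

theorem O2_conj {M : Subgroup G} : ∀ m ∈ M, ∀ q ∈ O2 M, m * q * m⁻¹ ∈ O2 M := by
  rintro m hm _ ⟨q, hq, rfl⟩
  exact ⟨_, (CfsgLib.Solvable.Cores.pCore_normal 2).conj_mem q hq ⟨m, hm⟩, rfl⟩

theorem le_O2 {M N : Subgroup G} (hNM : N ≤ M) (hn : ∀ m ∈ M, ∀ n ∈ N, m * n * m⁻¹ ∈ N)
    (h2 : IsPGroup 2 N) : N ≤ O2 M := by
  haveI hNn : (N.subgroupOf M).Normal := ⟨fun n hn' m => hn m m.2 n hn'⟩
  intro x hx
  exact ⟨⟨x, hNM hx⟩, CfsgLib.Solvable.Cores.le_pCore (hn := hNn) (h2.comap_of_injective M.subtype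
    M.subtype_injective) hx, rfl⟩

theorem O2_le_syl [Finite G] {T M : Subgroup G} (h : IsSyl T M) : O2 M ≤ T := by
  obtain ⟨m, hm, hle⟩ := h.conj_le (O2_le M) (O2_isPGroup M)
  intro x hx
  have : m⁻¹ * x * m ∈ O2 M := by
    have := O2_conj m⁻¹ (M.inv_mem hm) x hx
    rwa [inv_inv] at this
  exact hle (mem_cj.2 this)

/-- Elementary abelian 2-subgroups. -/
def Elem (A : Subgroup G) : Prop := ∀ a ∈ A, a * a = 1

theorem Elem.comm {A : Subgroup G} (h : Elem A) {a b : G} (ha : a ∈ A) (hb : b ∈ A) :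
    a * b = b * a := by
  have h1 : (a * b)⁻¹ = a * b := inv_eq_of_mul_eq_one_right (h _ (A.mul_mem ha hb))
  rw [← h1, mul_inv_rev, inv_eq_of_mul_eq_one_right (h _ ha), inv_eq_of_mul_eq_one_right (h _ hb)]

theorem Elem.isPGroup {A : Subgroup G} (h : Elem A) : IsPGroup 2 A := fun x =>
  ⟨1, Subtype.ext (by rw [pow_one, Subgroup.coe_pow, pow_two]; exact h x x.2)⟩

/-- Elementary subgroups of largest order in `T`. -/
def IsMax (T A : Subgroup G) : Prop :=
  A ≤ T ∧ Elem A ∧ ∀ B ≤ T, Elem B → Nat.card B ≤ Nat.card A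

/-- The Thompson subgroup. -/
def J (T : Subgroup G) : Subgroup G := sSup {A | IsMax T A}

theorem exists_isMax [Finite G] {T : Subgroup G} : ∃ A, IsMax T A := by
  obtain ⟨A, hA, hmax⟩ := Set.exists_max_image {A : Subgroup G | A ≤ T ∧ Elem A}
    (fun A => Nat.card A) (Set.toFinite _)
    ⟨⊥, bot_le, fun a ha => by rw [Subgroup.mem_bot] at ha; simp [ha]⟩
  exact ⟨A, hA.1, hA.2, fun B hB hB' => hmax B ⟨hB, hB'⟩⟩

theorem J_le {T : Subgroup G} : J T ≤ T := sSup_le fun _ h => h.1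

theorem elem_zpowers {t : G} (ht : t * t = 1) : Elem (zpowers t) := by
  rintro x ⟨i, rfl⟩
  show t ^ i * t ^ i = 1
  rw [← (Commute.refl t).mul_zpow, ht, one_zpow]

theorem J_ne_bot [Finite G] {T : Subgroup G} (hT : IsPGroup 2 T) (hT1 : T ≠ ⊥) : J T ≠ ⊥ := by
  haveI : Fact (Nat.Prime 2) := ⟨Nat.prime_two⟩
  haveI : Nontrivial T := (Subgroup.nontrivial_iff_ne_bot T).2 hT1
  obtain ⟨k, hk, hk'⟩ := hT.nontrivial_iff_card.1 inferInstance
  obtain ⟨t, ht⟩ := exists_prime_orderOf_dvd_card' (G := T) 2 (hk' ▸ dvd_pow_self 2 hk.ne')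
  obtain ⟨A, hA⟩ := exists_isMax (T := T)
  intro hJ
  have hA1 : A = ⊥ := le_bot_iff.1 (hJ ▸ (le_sSup hA : A ≤ J T))
  have ht' : (t : G) * t = 1 := by
    rw [← pow_two, ← Subgroup.coe_pow, ← ht, pow_orderOf_eq_one, Subgroup.coe_one]
  have := hA.2.2 (zpowers (t : G)) (zpowers_le.2 t.2) (elem_zpowers ht')
  rw [hA1, Subgroup.card_bot, Nat.card_zpowers, Subgroup.orderOf_coe, ht] at this
  omega

theorem IsMax.cj {T A : Subgroup G} (h : IsMax T A) (g : G) : IsMax (cj g T) (cj g A) := by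
  refine ⟨cj_mono h.1, ?_, fun B hB hB' => ?_⟩
  · intro a ha
    rw [mem_cj] at ha
    have := h.2.1 _ ha
    have e : g⁻¹ * (a * a) * g = 1 := by rw [← this]; group
    calc a * a = g * (g⁻¹ * (a * a) * g) * g⁻¹ := by group
      _ = 1 := by rw [e]; group
  · have h1 := h.2.2 (PrimeOrders.cj g⁻¹ B) (by simpa [cj_inv_cj] using cj_mono (g := g⁻¹) hB) ?_
    · rwa [card_cj, ← card_cj g A] at h1
    · intro b hb
      rw [mem_cj, inv_inv] at hb
      have := hB' _ hb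
      calc b * b = g⁻¹ * ((g * b * g⁻¹) * (g * b * g⁻¹)) * g := by group
        _ = 1 := by rw [this]; group

theorem J_cj (g : G) (T : Subgroup G) : J (cj g T) = cj g (J T) := by
  refine le_antisymm (sSup_le fun A hA => ?_) ?_
  · have h : IsMax T (cj g⁻¹ A) := by simpa [cj_inv_cj] using hA.cj g⁻¹
    have := cj_mono (g := g) (le_sSup h : cj g⁻¹ A ≤ J T)
    rwa [cj_cj_inv] at this
  · rw [cj, Subgroup.map_le_iff_le_comap]
    refine sSup_le fun A hA => ?_
    rw [← Subgroup.map_le_iff_le_comap]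
    exact le_sSup (hA.cj g)

theorem normalizer_le_normalizer_J (T : Subgroup G) :
    normalizer (T : Set G) ≤ normalizer (J T : Set G) := fun g hg => by
  rw [mem_normalizer_iff_cj] at hg ⊢
  rw [← J_cj, hg]

theorem J_eq_of_le {T Q : Subgroup G} (hQT : Q ≤ T) (h : ∀ A, IsMax T A → A ≤ Q) [Finite G] :
    J T = J Q := by
  obtain ⟨A₀, hA₀⟩ := exists_isMax (T := T)
  have e : {A | IsMax T A} = {A | IsMax Q A} := by
    ext A
    constructor
    · exact fun hA => ⟨h A hA, hA.2.1, fun B hB hB' => hA.2.2 B (hB.trans hQT) hB'⟩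
    · intro hA
      refine ⟨hA.1.trans hQT, hA.2.1, fun B hB hB' => ?_⟩
      exact (hA₀.2.2 B hB hB').trans (hA.2.2 A₀ (h A₀ hA₀) hA₀.2.1)
  show sSup {A | IsMax T A} = sSup {A | IsMax Q A}
  rw [e]

/-- The involutions of the centre of `Q`, with `1`. -/
def omz (Q : Subgroup G) : Subgroup G where
  carrier := {w | w ∈ Q ∧ w * w = 1 ∧ ∀ q ∈ Q, w * q = q * w}
  one_mem' := ⟨Q.one_mem, one_mul 1, fun q _ => by rw [one_mul, mul_one]⟩
  mul_mem' := by
    rintro a b ⟨ha, ha2, hac⟩ ⟨hb, hb2, hbc⟩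
    refine ⟨Q.mul_mem ha hb, ?_, fun q hq => ?_⟩
    · rw [mul_assoc a b, ← mul_assoc b a b, ← hac b hb, mul_assoc a b b, hb2, mul_one, ha2]
    · rw [mul_assoc, hbc q hq, ← mul_assoc, hac q hq, mul_assoc]
  inv_mem' := by
    rintro a ⟨ha, ha2, hac⟩
    rw [inv_eq_of_mul_eq_one_right ha2]
    exact ⟨ha, ha2, hac⟩

theorem omz_le (Q : Subgroup G) : omz Q ≤ Q := fun _ h => h.1

theorem elem_omz (Q : Subgroup G) : Elem (omz Q) := fun _ h => h.2.1

theorem omz_conj {M Q : Subgroup G} (hQ : ∀ m ∈ M, ∀ q ∈ Q, m * q * m⁻¹ ∈ Q) :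
    ∀ m ∈ M, ∀ w ∈ omz Q, m * w * m⁻¹ ∈ omz Q := by
  rintro m hm w ⟨hw, hw2, hwc⟩
  refine ⟨hQ m hm w hw, ?_, fun q hq => ?_⟩
  · calc m * w * m⁻¹ * (m * w * m⁻¹) = m * (w * w) * m⁻¹ := by group
      _ = 1 := by rw [hw2]; group
  · have h := hwc (m⁻¹ * q * m) (by simpa using hQ m⁻¹ (M.inv_mem hm) q hq)
    calc m * w * m⁻¹ * q = m * (w * (m⁻¹ * q * m)) * m⁻¹ := by group
      _ = q * (m * w * m⁻¹) := by rw [h]; group

theorem omz_ne_bot [Finite G] {Q : Subgroup G} (hQ : IsPGroup 2 Q) (hQ1 : Q ≠ ⊥) : omz Q ≠ ⊥ := by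
  haveI : Fact (Nat.Prime 2) := ⟨Nat.prime_two⟩
  haveI : Nontrivial Q := (Subgroup.nontrivial_iff_ne_bot Q).2 hQ1
  haveI := hQ.center_nontrivial
  obtain ⟨k, hk, hk'⟩ := (hQ.to_subgroup (Subgroup.center Q)).nontrivial_iff_card.1 inferInstance
  obtain ⟨z, hz⟩ := exists_prime_orderOf_dvd_card' (G := Subgroup.center Q) 2
    (hk' ▸ dvd_pow_self 2 hk.ne')
  intro h
  have hmem : ((z : Q) : G) ∈ omz Q := by
    refine ⟨(z : Q).2, ?_, fun q hq => ?_⟩
    · rw [← pow_two, ← Subgroup.coe_pow, ← Subgroup.coe_pow, ← hz, pow_orderOf_eq_one]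
      simp
    · exact congrArg Subtype.val (Subgroup.mem_center_iff.1 z.2 ⟨q, hq⟩).symm
  rw [h, Subgroup.mem_bot] at hmem
  have : orderOf z = 1 := by
    rw [← Subgroup.orderOf_coe, ← Subgroup.orderOf_coe, hmem, orderOf_one]
  omega

/-- The normalizer condition in a 2-group. -/
theorem exists_normalizing [Finite G] {P T : Subgroup G} (hP : IsPGroup 2 P) (h : T < P) :
    T < P ⊓ normalizer (T : Set G) := by
  haveI : Fact (Nat.Prime 2) := ⟨Nat.prime_two⟩
  haveI := hP.isNilpotent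
  refine lt_of_le_of_ne (le_inf h.le Subgroup.le_normalizer) fun he => ?_
  have hlt : T.subgroupOf P < ⊤ := by
    rw [lt_top_iff_ne_top, ne_eq, Subgroup.subgroupOf_eq_top]
    exact fun hh => h.not_ge hh
  have h1 := normalizerCondition_of_isNilpotent (G := P) (T.subgroupOf P) hlt
  obtain ⟨x, hx, hx'⟩ := SetLike.exists_of_lt h1
  refine hx' ?_
  rw [Subgroup.mem_subgroupOf]
  rw [he]
  refine Subgroup.mem_inf.2 ⟨x.2, ?_⟩
  rw [Subgroup.mem_normalizer_iff]
  intro y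
  rw [Subgroup.mem_normalizer_iff] at hx
  constructor
  · intro hy
    exact (hx ⟨y, h.le hy⟩).1 hy
  · intro hy
    have hyP : y ∈ P := by
      have := P.mul_mem (P.mul_mem (P.inv_mem x.2) (h.le hy)) x.2
      simpa [mul_assoc] using this
    exact (hx ⟨y, hyP⟩).2 hy

end CfsgLib.Recognition.PrimeOrders
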