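import Cfsg.Agent.Lib.Involution.BaerSuzuki
import Mathlib

/-!
Fixed-point-free elements of order three on normalised subgroups, and involutions outside the
2-core of a group acting without fixed points on a normal 2-subgroup.
-/

set_option autoImplicit false

namespace CfsgLib.Recognition.PrimeOrders

variable {G : Type*} [Group G]

/-- Every element `x` of a group with a fixed-point-free element `σ` of order three satisfies
`x · x^σ · x^(σ²) = 1`. -/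
theorem fpf_identity (Q : Subgroup G) [Finite Q] {σ : G} (hσ : σ ^ 3 = 1)
    (hn : ∀ x ∈ Q, σ * x * σ⁻¹ ∈ Q) (hfix : ∀ x ∈ Q, σ * x * σ⁻¹ = x → x = 1) :
    ∀ x ∈ Q, ∃ y ∈ Q, x = y⁻¹ * (σ * y * σ⁻¹) ∧
      x * (σ * x * σ⁻¹) * (σ * (σ * x * σ⁻¹) * σ⁻¹) = 1 := by
  intro x hx
  let f : Q → Q := fun y => ⟨(y : G)⁻¹ * (σ * y * σ⁻¹), Q.mul_mem (Q.inv_mem y.2) (hn _ y.2)⟩
  have hf : Function.Injective f := by
    intro a b hab
    have h : (a : G)⁻¹ * (σ * a * σ⁻¹) = (b : G)⁻¹ * (σ * b * σ⁻¹) := congrArg Subtype.val hab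
    have h2 : σ * ((b : G) * (a : G)⁻¹) * σ⁻¹ = (b : G) * (a : G)⁻¹ := by
      calc σ * ((b : G) * (a : G)⁻¹) * σ⁻¹
          = (b : G) * ((b : G)⁻¹ * (σ * b * σ⁻¹)) * (σ * a * σ⁻¹)⁻¹ := by group
        _ = (b : G) * ((a : G)⁻¹ * (σ * a * σ⁻¹)) * (σ * a * σ⁻¹)⁻¹ := by rw [h]
        _ = (b : G) * (a : G)⁻¹ := by group
    have := hfix _ (Q.mul_mem b.2 (Q.inv_mem a.2)) h2
    exact Subtype.ext (mul_inv_eq_one.mp this).symm
  obtain ⟨y, hy⟩ := Finite.surjective_of_injective hf ⟨x, hx⟩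
  have hxy : x = (y : G)⁻¹ * (σ * y * σ⁻¹) := (congrArg Subtype.val hy).symm
  refine ⟨y, y.2, hxy, ?_⟩
  rw [hxy]
  calc _ = (y : G)⁻¹ * (σ ^ 3 * y * (σ ^ 3)⁻¹) := by simp only [pow_succ, pow_zero, one_mul]; group
    _ = 1 := by rw [hσ]; group

/-- If `σ` of order three acts without fixed points on `Q`, and `Q` normalises the abelian subgroup
`U` of `Q` with `U ∩ U^σ = 1`, then `Q` centralises `U`. -/
theorem centralizes_of_inf_conj (Q U : Subgroup G) [Finite Q] {σ : G} (hσ : σ ^ 3 = 1)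
    (hn : ∀ x ∈ Q, σ * x * σ⁻¹ ∈ Q) (hfix : ∀ x ∈ Q, σ * x * σ⁻¹ = x → x = 1)
    (hUQ : U ≤ Q) (hU : ∀ q ∈ Q, ∀ u ∈ U, q * u * q⁻¹ ∈ U)
    (hinf : ∀ u ∈ U, σ * u * σ⁻¹ ∈ U → u = 1) :
    ∀ q ∈ Q, ∀ u ∈ U, q * u = u * q := by
  intro q hq u hu
  -- `c q = σ q σ⁻¹`
  have key : ∀ y ∈ Q, ∀ x ∈ U, (y⁻¹ * (σ * y * σ⁻¹)) * (σ * x * σ⁻¹) =
      (σ * x * σ⁻¹) * (y⁻¹ * (σ * y * σ⁻¹)) := by
    intro y hy x hx
    obtain ⟨y', hy', hyy'⟩ : ∃ y' ∈ Q, y = σ * y' * σ⁻¹ := by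
      refine ⟨σ⁻¹ * y * σ, ?_, by group⟩
      have h2 := hn _ (hn _ hy)
      have : σ⁻¹ * y * σ = σ * (σ * y * σ⁻¹) * σ⁻¹ := by
        calc σ⁻¹ * y * σ = σ ^ 3 * (σ⁻¹ * y * σ) * (σ ^ 3)⁻¹ := by rw [hσ]; group
          _ = _ := by simp only [pow_succ, pow_zero, one_mul]; group
      rwa [this]
    set a := y * x * y⁻¹ with ha
    have haU : a ∈ U := hU y hy x hx
    obtain ⟨-, -, -, h1⟩ := fpf_identity Q hσ hn hfix x (hUQ hx)
    obtain ⟨-, -, -, h2⟩ := fpf_identity Q hσ hn hfix a (hUQ haU)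
    set p := y * (σ * x * σ⁻¹) * y⁻¹ with hp
    set r := y * (σ * (σ * x * σ⁻¹) * σ⁻¹) * y⁻¹ with hr
    have h3 : a * p * r = 1 := by
      calc a * p * r = y * (x * (σ * x * σ⁻¹) * (σ * (σ * x * σ⁻¹) * σ⁻¹)) * y⁻¹ := by
            rw [ha, hp, hr]; group
        _ = 1 := by rw [h1]; group
    -- `p` lies in `U^σ` and `r` in `U^(σ²)`
    have hp' : σ⁻¹ * p * σ ∈ U := by
      have h := hU y' hy' x hx
      have e : σ⁻¹ * p * σ = y' * x * y'⁻¹ := by rw [hp, hyy']; group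
      rwa [e]
    obtain ⟨y'', hy'', hyy''⟩ : ∃ y'' ∈ Q, y' = σ * y'' * σ⁻¹ := by
      refine ⟨σ⁻¹ * y' * σ, ?_, by group⟩
      have h2 := hn _ (hn _ hy')
      have : σ⁻¹ * y' * σ = σ * (σ * y' * σ⁻¹) * σ⁻¹ := by
        calc σ⁻¹ * y' * σ = σ ^ 3 * (σ⁻¹ * y' * σ) * (σ ^ 3)⁻¹ := by rw [hσ]; group
          _ = _ := by simp only [pow_succ, pow_zero, one_mul]; group
      rwa [this]
    have hr' : σ⁻¹ * (σ⁻¹ * r * σ) * σ ∈ U := by
      have h := hU y'' hy'' x hx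
      have e : σ⁻¹ * (σ⁻¹ * r * σ) * σ = y'' * x * y''⁻¹ := by rw [hr, hyy', hyy'']; group
      rwa [e]
    have h4 : (σ⁻¹ * p * σ) * (σ⁻¹ * r * σ) = a * (σ * a * σ⁻¹) := by
      have e1 : p * r = (σ * a * σ⁻¹) * (σ * (σ * a * σ⁻¹) * σ⁻¹) :=
        mul_left_cancel (a := a) ((mul_assoc a p r).symm.trans (h3.trans (h2.symm.trans (mul_assoc _ _ _))))
      calc (σ⁻¹ * p * σ) * (σ⁻¹ * r * σ) = σ⁻¹ * (p * r) * σ := by group
        _ = a * (σ * a * σ⁻¹) := by rw [e1]; group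
    have h5 : a⁻¹ * (σ⁻¹ * p * σ) = (σ * a * σ⁻¹) * (σ⁻¹ * r * σ)⁻¹ :=
      eq_mul_inv_of_mul_eq (by rw [mul_assoc, h4]; group)
    have h6 : a⁻¹ * (σ⁻¹ * p * σ) = 1 := by
      have hmem : a⁻¹ * (σ⁻¹ * p * σ) ∈ U := U.mul_mem (U.inv_mem haU) hp'
      set w := a * (σ⁻¹ * (σ⁻¹ * r * σ) * σ)⁻¹ with hw
      have hwU : w ∈ U := U.mul_mem haU (U.inv_mem hr')
      have e : σ * w * σ⁻¹ = a⁻¹ * (σ⁻¹ * p * σ) := by rw [h5, hw]; group
      have hw1 : w = 1 := hinf w hwU (by rw [e]; exact hmem)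
      rw [← e, hw1]; group
    have h7 : p = σ * a * σ⁻¹ := by
      calc p = σ * (a * (a⁻¹ * (σ⁻¹ * p * σ))) * σ⁻¹ := by group
        _ = σ * a * σ⁻¹ := by rw [h6]; group
    calc (y⁻¹ * (σ * y * σ⁻¹)) * (σ * x * σ⁻¹)
        = y⁻¹ * (σ * a * σ⁻¹) * (σ * y * σ⁻¹) := by rw [ha]; group
      _ = y⁻¹ * p * (σ * y * σ⁻¹) := by rw [h7]
      _ = (σ * x * σ⁻¹) * (y⁻¹ * (σ * y * σ⁻¹)) := by rw [hp]; group
  obtain ⟨y, hy, hyq, -⟩ := fpf_identity Q hσ hn hfix (σ * q * σ⁻¹) (hn q hq)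
  have h := key y hy u hu
  rw [← hyq] at h
  calc q * u = σ⁻¹ * ((σ * q * σ⁻¹) * (σ * u * σ⁻¹)) * σ := by group
    _ = σ⁻¹ * ((σ * u * σ⁻¹) * (σ * q * σ⁻¹)) * σ := by rw [h]
    _ = u * q := by group

/-- An involution outside the 2-core centralises a subgroup of index at most `|Q|^(1/2)` of a normal
2-subgroup on which all nontrivial elements of odd order act without fixed points. -/
theorem card_le_relIndex_sq [Finite G] (M Q : Subgroup G) (hQM : Q ≤ M)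
    (hQn : ∀ m ∈ M, ∀ q ∈ Q, m * q * m⁻¹ ∈ Q) {a : G} (haM : a ∈ M) (ha : orderOf a = 2)
    (haO : ∀ N : Subgroup G, N ≤ M → (∀ m ∈ M, ∀ n ∈ N, m * n * m⁻¹ ∈ N) → IsPGroup 2 N → a ∉ N)
    (hfix : ∀ d ∈ M, d ≠ 1 → Odd (orderOf d) → ∀ q ∈ Q, d * q = q * d → q = 1)
    (H : Subgroup G) (hH : ∀ h ∈ H, a * h = h * a) :
    Nat.card Q ≤ H.relIndex Q ^ 2 ∧ ∃ d ∈ M, d ≠ 1 ∧ Odd (orderOf d) := by
  classical
  have hno : ∀ N : Subgroup M, N.Normal → IsPGroup 2 N → (⟨a, haM⟩ : M) ∉ N := by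
    intro N hN h2 hmem
    refine haO (N.map M.subtype) (Subgroup.map_subtype_le N) ?_ (h2.map _) ⟨_, hmem, rfl⟩
    rintro m hm n ⟨n', hn', rfl⟩
    exact ⟨_, hN.conj_mem n' hn' ⟨m, hm⟩, rfl⟩
  obtain ⟨d, hd1, hdodd, hinv⟩ := CfsgLib.Involution.BaerSuzuki.exists_inverted_odd (G := M)
    (⟨a, haM⟩ : M) (by rw [Subgroup.orderOf_mk, ha]) hno
  set δ : G := (d : G) with hδ
  have hδM : δ ∈ M := d.2
  have hδ1 : δ ≠ 1 := fun h => hd1 (Subtype.ext h)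
  have hδo : Odd (orderOf δ) := by rw [hδ, Subgroup.orderOf_coe]; exact hdodd
  have haδ : a * δ * a⁻¹ = δ⁻¹ := congrArg Subtype.val hinv
  refine ⟨?_, δ, hδM, hδ1, hδo⟩
  set K := H ⊓ Q with hK
  set K' := K.map (MulAut.conj δ).toMonoidHom with hK'
  have hsq : Odd (orderOf (δ ^ 2)) ∧ δ ^ 2 ≠ 1 := by
    refine ⟨?_, fun h => hδ1 ?_⟩
    · exact Odd.of_dvd_nat hδo (orderOf_pow_dvd 2)
    · have h2 : orderOf δ ∣ 2 := orderOf_dvd_of_pow_eq_one h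
      rcases (Nat.dvd_prime Nat.prime_two).1 h2 with h' | h'
      · exact orderOf_eq_one_iff.1 h'
      · rw [h'] at hδo; exact absurd hδo (by decide)
  have hdis : K ⊓ K' = ⊥ := by
    rw [Subgroup.eq_bot_iff_forall]
    rintro x ⟨hxK, k, hk, hkx⟩
    have hkx' : δ * k * δ⁻¹ = x := hkx
    have hax : a * x = x * a := hH x hxK.1
    have hak : a * k = k * a := hH k hk.1
    have h1 : δ⁻¹ * k * δ = x := by
      calc δ⁻¹ * k * δ = (a * δ * a⁻¹) * k * (a * δ * a⁻¹)⁻¹ := by rw [haδ, inv_inv]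
        _ = a * δ * (a⁻¹ * k * a) * δ⁻¹ * a⁻¹ := by group
        _ = a * δ * k * δ⁻¹ * a⁻¹ := by rw [mul_assoc a⁻¹, ← hak, inv_mul_cancel_left]
        _ = a * x * a⁻¹ := by rw [← hkx']; group
        _ = x := by rw [hax, mul_inv_cancel_right]
    refine hfix (δ ^ 2) (M.pow_mem hδM 2) hsq.2 hsq.1 x hxK.2 ?_
    calc δ ^ 2 * x = δ ^ 2 * (δ⁻¹ * k * δ) := by rw [h1]
      _ = (δ * k * δ⁻¹) * δ ^ 2 := by simp only [pow_two]; group
      _ = x * δ ^ 2 := by rw [hkx']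
  have hK'Q : K' ≤ Q := by
    rintro _ ⟨k, hk, rfl⟩
    exact hQn δ hδM k hk.2
  have hcardK' : Nat.card K' = Nat.card K :=
    Nat.card_congr (K.equivMapOfInjective _ (MulAut.conj δ).injective).symm.toEquiv
  have hprod : Nat.card K * Nat.card K ≤ Nat.card Q := by
    have hinj : Function.Injective (fun p : K × K' =>
        (⟨(p.1 : G) * (p.2 : G), Q.mul_mem p.1.2.2 (hK'Q p.2.2)⟩ : Q)) := by
      rintro ⟨x, y⟩ ⟨x', y'⟩ h
      have h' : (x : G) * y = x' * y' := congrArg Subtype.val h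
      have hm : (x' : G)⁻¹ * x ∈ K ⊓ K' :=
        ⟨K.mul_mem (K.inv_mem x'.2) x.2, by
          rw [show (x' : G)⁻¹ * x = (y' : G) * (y : G)⁻¹ by
            rw [eq_mul_inv_iff_mul_eq, mul_assoc, h', inv_mul_cancel_left]]
          exact K'.mul_mem y'.2 (K'.inv_mem y.2)⟩
      rw [hdis, Subgroup.mem_bot, inv_mul_eq_one] at hm
      rw [hm] at h'
      exact Prod.ext (Subtype.ext hm.symm) (Subtype.ext (mul_left_cancel h'))
    have h := Nat.card_le_card_of_injective _ hinj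
    rw [Nat.card_prod, hcardK'] at h
    exact h
  have hidx : Nat.card K * H.relIndex Q = Nat.card Q := by
    rw [hK, ← Subgroup.card_mul_index ((H ⊓ Q).subgroupOf Q)]
    congr 1
    · exact Nat.card_congr (Subgroup.subgroupOfEquivOfLe inf_le_right).symm.toEquiv
    · rw [show (H ⊓ Q).subgroupOf Q = H.subgroupOf Q from Subgroup.inf_subgroupOf_right H Q]; rfl
  have hKpos : 0 < Nat.card K := Nat.card_pos
  have h1 : Nat.card K ≤ H.relIndex Q := by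
    rw [← hidx] at hprod
    exact Nat.le_of_mul_le_mul_left hprod hKpos
  calc Nat.card Q = Nat.card K * H.relIndex Q := hidx.symm
    _ ≤ H.relIndex Q * H.relIndex Q := Nat.mul_le_mul_right _ h1
    _ = H.relIndex Q ^ 2 := (pow_two _).symm

end CfsgLib.Recognition.PrimeOrders
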