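import Cfsg.Agent.Lib.Recognition.PrimeOrders.Natural
import Cfsg.Agent.Lib.Solvable.FrattiniFitting

/-!
A 2-local subgroup normalises the Thompson subgroup of its Sylow 2-subgroup or a natural four-group;
two natural four-groups with a common Sylow 2-subgroup of their normalisers force a self-centralising
four-group.
-/

set_option autoImplicit false

open Subgroup

namespace CfsgLib.Recognition.PrimeOrders

variable {G : Type*} [Group G] [Finite G]

/-- An elementary 2-subgroup of a local subgroup has at most two cosets modulo the 2-core. -/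
theorem Hyp.relIndex_O2_le (H : Hyp G) {D : Subgroup G} (hD : IsPGroup 2 D) (hD1 : D ≠ ⊥)
    {A : Subgroup G} (hA : A ≤ normalizer (D : Set G)) (hA2 : Elem A) :
    (O2 (normalizer (D : Set G))).relIndex A ≤ 2 := by
  classical
  haveI : Fact (Nat.Prime 2) := ⟨Nat.prime_two⟩
  obtain ⟨a, r, hr, hrodd, hcard⟩ := H.locals D hD hD1
  set M := normalizer (D : Set G) with hM
  set Q := Cfsg.pCore 2 ↥M with hQ
  haveI hQn : Q.Normal := CfsgLib.Solvable.Cores.pCore_normal 2
  have hQ2 : IsPGroup 2 Q := CfsgLib.Solvable.Cores.isPGroup_pCore 2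
  let f : A →* ↥M ⧸ Q := (QuotientGroup.mk' Q).comp (Subgroup.inclusion hA)
  have hker : f.ker = (O2 M).subgroupOf A := by
    ext x
    rw [MonoidHom.mem_ker, Subgroup.mem_subgroupOf, MonoidHom.comp_apply, QuotientGroup.mk'_apply,
      QuotientGroup.eq_one_iff]
    constructor
    · exact fun h => ⟨_, h, rfl⟩
    · rintro ⟨y, hy, e⟩
      rwa [show Subgroup.inclusion hA x = y from Subtype.ext e.symm]
  have hindex : (O2 M).relIndex A = Nat.card f.range := by
    rw [Subgroup.relIndex, ← hker, Subgroup.index_ker]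
  rw [hindex]
  -- a normal subgroup which is a 2-group is trivial
  have hnt : ∀ N : Subgroup (↥M ⧸ Q), N.Normal → IsPGroup 2 N → N = ⊥ := by
    intro N hN h2
    haveI := hN
    have hp : IsPGroup 2 (N.comap (QuotientGroup.mk' Q)) :=
      h2.comap_of_ker_isPGroup _ (by rw [QuotientGroup.ker_mk']; exact hQ2)
    have hle : N.comap (QuotientGroup.mk' Q) ≤ Q := CfsgLib.Solvable.Cores.le_pCore hp
    rw [Subgroup.eq_bot_iff_forall]
    intro x hx
    obtain ⟨y, rfl⟩ := QuotientGroup.mk'_surjective Q x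
    exact (QuotientGroup.eq_one_iff y).2 (hle hx)
  have hdvd : Nat.card (↥M ⧸ Q) ∣ 2 ^ a * r := hcard ▸ Subgroup.card_quotient_dvd_card Q
  -- the 2-part of the image of `A` in the quotient is cyclic
  by_cases htriv : Nat.card (↥M ⧸ Q) = 1
  · exact (Subgroup.card_le_card_group f.range).trans (htriv.le.trans one_le_two)
  have hsolv : Group.IsSolvable (↥M ⧸ Q) := by
    have hM' : Group.IsSolvable ↥M := by
      rcases hr with rfl | hr
      · exact Cfsg.Agent.S0144.result 2 3 a 0 Nat.prime_two Nat.prime_three (by rw [hcard, pow_zero])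
      · exact Cfsg.Agent.S0144.result 2 r a 1 Nat.prime_two hr (by rw [hcard, pow_one])
    haveI := hM'
    exact solvable_of_surjective (QuotientGroup.mk'_surjective Q)
  obtain ⟨n, hn⟩ := hsolv.solvable
  have hex : ∃ n, derivedSeries (↥M ⧸ Q) n = ⊥ := ⟨n, hn⟩
  obtain ⟨m, hm⟩ : ∃ m, Nat.find hex = m + 1 := by
    refine ⟨Nat.find hex - 1, ?_⟩
    have : Nat.find hex ≠ 0 := by
      intro e
      have h0 := Nat.find_spec hex
      rw [e, derivedSeries_zero] at h0
      apply htriv
      rw [← Subgroup.card_top, h0, Subgroup.card_bot]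
    omega
  set K := derivedSeries (↥M ⧸ Q) m with hK
  have hK1 : K ≠ ⊥ := Nat.find_min hex (by omega)
  have hKab : ∀ x ∈ K, ∀ y ∈ K, x * y = y * x := by
    intro x hx y hy
    have h0 := Nat.find_spec hex
    rw [hm, derivedSeries_succ] at h0
    exact Subgroup.mem_centralizer_iff.1
      ((Subgroup.commutator_eq_bot_iff_le_centralizer.1 h0) hy) x hx
  haveI hKn : K.Normal := derivedSeries_normal _ m
  let K2 : Subgroup (↥M ⧸ Q) :=
    { carrier := {x | x ∈ K ∧ ∃ k, x ^ 2 ^ k = 1}
      one_mem' := ⟨K.one_mem, 0, one_pow _⟩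
      mul_mem' := by
        rintro x y ⟨hx, i, hi⟩ ⟨hy, j, hj⟩
        refine ⟨K.mul_mem hx hy, i + j, ?_⟩
        rw [Commute.mul_pow (hKab x hx y hy), pow_add, pow_mul, hi, one_pow, one_mul, mul_comm,
          pow_mul, hj, one_pow]
      inv_mem' := by
        rintro x ⟨hx, i, hi⟩
        exact ⟨K.inv_mem hx, i, by rw [inv_pow, hi, inv_one]⟩ }
  have hK2 : K2 = ⊥ := by
    refine hnt K2 ⟨?_⟩ fun x => ?_
    · rintro x ⟨hx, i, hi⟩ g
      exact ⟨hKn.conj_mem x hx g, i, by rw [conj_pow, hi, mul_one, mul_inv_cancel]⟩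
    · obtain ⟨i, hi⟩ := x.2.2
      exact ⟨i, Subtype.ext hi⟩
  have hKdvd : Nat.card K ∣ r := by
    have h1 : Nat.card K ∣ 2 ^ a * r := (Subgroup.card_subgroup_dvd_card K).trans hdvd
    refine Nat.Coprime.dvd_of_dvd_mul_left ?_ h1
    refine Nat.Coprime.pow_right _ (Nat.Coprime.symm ((Nat.prime_two.coprime_iff_not_dvd).2 fun h2 => ?_))
    obtain ⟨x, hx⟩ := exists_prime_orderOf_dvd_card' (G := K) 2 h2
    have hmem : (x : ↥M ⧸ Q) ∈ K2 :=
      ⟨x.2, 1, by rw [pow_one, ← Subgroup.coe_pow, ← hx, pow_orderOf_eq_one, Subgroup.coe_one]⟩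
    rw [hK2, Subgroup.mem_bot] at hmem
    rw [← Subgroup.orderOf_coe, hmem, orderOf_one] at hx
    omega
  have hrp : r.Prime := by
    rcases hr with rfl | h
    · exact absurd (Subgroup.card_eq_one.1 (Nat.dvd_one.1 hKdvd)) hK1
    · exact h
  have hKr : Nat.card K = r := ((Nat.dvd_prime hrp).1 hKdvd).resolve_left
    fun e => hK1 (Subgroup.card_eq_one.1 e)
  haveI : Fact r.Prime := ⟨hrp⟩
  haveI hKc : IsCyclic K := isCyclic_of_prime_card hKr
  -- the centraliser of `K` is `K`
  set C := centralizer (K : Set (↥M ⧸ Q)) with hC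
  haveI hCn : C.Normal := Subgroup.normal_centralizer
  have hKC : K ≤ C := fun x hx => Subgroup.mem_centralizer_iff.2 fun y hy => hKab y hy x hx
  have hC2 : ∀ x ∈ C, ∀ k, x ^ 2 ^ k = 1 → x = 1 := by
    haveI hnil : Group.IsNilpotent C := by
      set K' := K.subgroupOf C with hK'
      haveI : K'.Normal := hKn.subgroupOf C
      have hqn : Group.IsNilpotent (↥C ⧸ K') := by
        have hd : Nat.card (↥C ⧸ K') ∣ 2 ^ a := by
          have h1 : Nat.card (↥C ⧸ K') * r ∣ 2 ^ a * r := by
            have e : Nat.card C = Nat.card (↥C ⧸ K') * r := by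
              rw [Subgroup.card_eq_card_quotient_mul_card_subgroup K', hK',
                Nat.card_congr (Subgroup.subgroupOfEquivOfLe hKC).toEquiv, hKr]
            rw [← e]
            exact (Subgroup.card_subgroup_dvd_card C).trans hdvd
          exact Nat.dvd_of_mul_dvd_mul_right hrp.pos h1
        obtain ⟨j, -, hj⟩ := (Nat.dvd_prime_pow Nat.prime_two).1 hd
        exact (IsPGroup.of_card hj).isNilpotent
      haveI := hqn
      refine Subgroup.isNilpotent_of_ker_le_center (QuotientGroup.mk' K') ?_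
      rw [QuotientGroup.ker_mk']
      intro x hx
      rw [Subgroup.mem_center_iff]
      intro y
      exact Subtype.ext ((Subgroup.mem_centralizer_iff.1 y.2 x hx).symm)
    obtain ⟨P⟩ : Nonempty (Sylow 2 C) := inferInstance
    haveI : (P : Subgroup C).Normal := Sylow.normal_of_normalizerCondition normalizerCondition_of_isNilpotent P
    haveI : (P : Subgroup C).Characteristic := P.characteristic_of_normal inferInstance
    have hP0 : (P : Subgroup C).map C.subtype = ⊥ := hnt _ inferInstance (P.isPGroup'.map _)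
    intro x hx k hk
    have hz : IsPGroup 2 (zpowers (⟨x, hx⟩ : C)) := by
      obtain ⟨j, -, hj⟩ := (Nat.dvd_prime_pow Nat.prime_two).1
        (orderOf_dvd_of_pow_eq_one (Subtype.ext hk : (⟨x, hx⟩ : C) ^ 2 ^ k = 1))
      exact IsPGroup.of_card (n := j) (by rw [Nat.card_zpowers, hj])
    obtain ⟨P', hP'⟩ := hz.exists_le_sylow
    haveI : Subsingleton (Sylow 2 C) := (Sylow.unique_of_normal P inferInstance).instSubsingleton
    have hxP : (⟨x, hx⟩ : C) ∈ (P : Subgroup C) := by
      rw [Subsingleton.elim P P']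
      exact hP' (mem_zpowers _)
    have : x ∈ (P : Subgroup C).map C.subtype := ⟨_, hxP, rfl⟩
    rwa [hP0, Subgroup.mem_bot] at this
  let g : f.range →* MulAut K := (MulAut.conjNormal).comp f.range.subtype
  have hA4 : ∀ x : A, x ^ 2 = 1 := fun x => Subtype.ext (by
    rw [Subgroup.coe_pow, pow_two, Subgroup.coe_one]; exact hA2 x x.2)
  have hg : Function.Injective g := by
    rw [← MonoidHom.ker_eq_bot_iff, Subgroup.eq_bot_iff_forall]
    rintro ⟨x, hx⟩ hxk
    obtain ⟨y, rfl⟩ := hx
    have hyC : f y ∈ C := by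
      refine Subgroup.mem_centralizer_iff.2 fun k hk => ?_
      have := congrArg (fun e : MulAut K => ((e ⟨k, hk⟩ : K) : ↥M ⧸ Q)) hxk
      simp [g] at this
      exact (mul_inv_eq_iff_eq_mul.1 this).symm
    exact Subtype.ext (hC2 _ hyC 1 (by rw [pow_one, ← map_pow, hA4, map_one]))
  haveI : IsCyclic (MulAut K) := by
    haveI : Fact (Nat.card K).Prime := ⟨hKr ▸ hrp⟩
    exact isCyclic_of_surjective (IsCyclic.mulAutMulEquiv K).symm (MulEquiv.surjective _)
  haveI : IsCyclic f.range := isCyclic_of_injective g hg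
  obtain ⟨x, hx⟩ := IsCyclic.exists_generator (α := f.range)
  have h2 : x ^ 2 = 1 := by
    obtain ⟨y, hy⟩ := x.2
    refine Subtype.ext ?_
    rw [Subgroup.coe_pow, ← hy, ← map_pow, hA4, map_one, Subgroup.coe_one]
  rw [← orderOf_eq_card_of_forall_mem_zpowers hx]
  exact Nat.le_of_dvd two_pos (orderOf_dvd_of_pow_eq_one h2)

/-- A 2-local subgroup normalises the Thompson subgroup of its Sylow 2-subgroup or a natural
four-group inside that Sylow subgroup. -/
theorem Hyp.local_cases (H : Hyp G) {D T : Subgroup G} (hD : IsPGroup 2 D) (hD1 : D ≠ ⊥)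
    (hT : IsSyl T (normalizer (D : Set G))) :
    normalizer (D : Set G) ≤ normalizer (J T : Set G) ∨
      ∃ V, Natural V ∧ V ≤ T ∧ normalizer (D : Set G) ≤ normalizer (V : Set G) := by
  classical
  set M := normalizer (D : Set G) with hM
  set Q := O2 M with hQ
  have hQT : Q ≤ T := O2_le_syl hT
  by_cases hall : ∀ A, IsMax T A → A ≤ Q
  · left
    rw [J_eq_of_le hQT hall]
    intro m hm
    refine normalizer_le_normalizer_J Q ?_
    rw [mem_normalizer_iff_cj]
    refine Subgroup.eq_of_le_of_card_ge (fun x hx => ?_) (by rw [card_cj])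
    obtain ⟨q, hq, rfl⟩ := hx
    exact O2_conj m hm q hq
  right
  push Not at hall
  obtain ⟨A, hA, hAQ⟩ := hall
  obtain ⟨a, haA, haQ⟩ := SetLike.not_le_iff_exists.1 hAQ
  have haM : a ∈ M := hT.1 (hA.1 haA)
  have ha1 : a ≠ 1 := fun e => haQ (e ▸ Q.one_mem)
  have ha2 : orderOf a = 2 := orderOf_eq_prime (by rw [pow_two]; exact hA.2.1 a haA) ha1
  have hDM : D ≤ M := Subgroup.le_normalizer
  have hDQ : D ≤ Q := le_O2 hDM (fun m hm d hd => (Subgroup.mem_normalizer_iff.1 hm d).1 hd) hD
  have hQ1 : Q ≠ ⊥ := fun e => hD1 (le_bot_iff.1 (e ▸ hDQ))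
  have hQ2 : IsPGroup 2 Q := O2_isPGroup M
  set V := omz Q with hV
  have hVM : ∀ m ∈ M, ∀ v ∈ V, m * v * m⁻¹ ∈ V := omz_conj (O2_conj (M := M))
  have hV1 : V ≠ ⊥ := omz_ne_bot hQ2 hQ1
  have hVT : V ≤ T := (omz_le Q).trans hQT
  -- `|V : V ∩ A| ≤ 2`
  set B := A ⊓ Q with hB
  have hBel : Elem B := fun x hx => hA.2.1 x hx.1
  have hcomm : ∀ b ∈ B, ∀ v ∈ V, b * v = v * b := fun b hb v hv => (hv.2.2 b hb.2).symm
  have hVB : Elem (B ⊔ V) := by
    let W : Subgroup G :=
      { carrier := {x | ∃ b ∈ B, ∃ v ∈ V, x = b * v}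
        one_mem' := ⟨1, B.one_mem, 1, V.one_mem, (one_mul 1).symm⟩
        mul_mem' := by
          rintro _ _ ⟨b, hb, v, hv, rfl⟩ ⟨b', hb', v', hv', rfl⟩
          refine ⟨b * b', B.mul_mem hb hb', v * v', V.mul_mem hv hv', ?_⟩
          rw [mul_assoc, mul_assoc, ← mul_assoc v b', ← hcomm b' hb' v hv, mul_assoc]
        inv_mem' := by
          rintro _ ⟨b, hb, v, hv, rfl⟩
          refine ⟨b⁻¹, B.inv_mem hb, v⁻¹, V.inv_mem hv, ?_⟩
          rw [mul_inv_rev]
          exact (hcomm _ (B.inv_mem hb) _ (V.inv_mem hv)).symm }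
    have hle : B ⊔ V ≤ W := sup_le (fun b hb => ⟨b, hb, 1, V.one_mem, (mul_one b).symm⟩)
      (fun v hv => ⟨1, B.one_mem, v, hv, (one_mul v).symm⟩)
    intro x hx
    obtain ⟨b, hb, v, hv, rfl⟩ := hle hx
    calc b * v * (b * v) = b * (v * b) * v := by group
      _ = (b * b) * (v * v) := by rw [← hcomm b hb v hv]; group
      _ = 1 := by rw [hBel b hb, hv.2.1, one_mul]
  have hbig : Nat.card ↥(B ⊔ V) ≤ Nat.card A :=
    hA.2.2 _ (sup_le (inf_le_left.trans hA.1) hVT) hVB
  have hrel : Q.relIndex A ≤ 2 := H.relIndex_O2_le hD hD1 (hA.1.trans hT.1) hA.2.1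
  have hAB : Nat.card B * Q.relIndex A = Nat.card A := by
    have h := Subgroup.card_mul_index (Q.subgroupOf A)
    rwa [Nat.card_congr (show Q.subgroupOf A ≃ B from
      { toFun := fun x => ⟨((x : A) : G), ⟨(x : A).2, x.2⟩⟩
        invFun := fun x => ⟨⟨(x : G), x.2.1⟩, x.2.2⟩
        left_inv := fun _ => rfl
        right_inv := fun _ => rfl })] at h
  have hVA : A.relIndex V ≤ 2 := by
    have h1 : Nat.card B * (B.relIndex V) ≤ Nat.card ↥(B ⊔ V) := by
      have hle : B.relIndex V ≤ (B.subgroupOf (B ⊔ V)).index :=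
        Subgroup.relIndex_le_of_le_right le_sup_right (Subgroup.index_ne_zero_of_finite (H := B.subgroupOf (B ⊔ V)))
      have := Subgroup.card_mul_index (B.subgroupOf (B ⊔ V))
      rw [Nat.card_congr (Subgroup.subgroupOfEquivOfLe (le_sup_left : B ≤ B ⊔ V)).toEquiv] at this
      calc Nat.card B * B.relIndex V ≤ Nat.card B * (B.subgroupOf (B ⊔ V)).index :=
            Nat.mul_le_mul_left _ hle
        _ = _ := this
    have h2 : B.relIndex V ≤ Q.relIndex A := by
      refine Nat.le_of_mul_le_mul_left ?_ (Nat.card_pos (α := B))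
      exact h1.trans (hbig.trans hAB.ge)
    have e : B.relIndex V = A.relIndex V := by
      rw [hB, ← Subgroup.inf_relIndex_right, inf_assoc, inf_eq_right.2 (omz_le Q),
        Subgroup.inf_relIndex_right]
    exact e ▸ h2.trans hrel
  have hfix : ∀ d ∈ M, d ≠ 1 → Odd (orderOf d) → ∀ q ∈ V, d * q = q * d → q = 1 := by
    intro d _ hd1 hdo q hq e
    by_contra hq1
    exact hd1 (H.eq_one_of_commute hQ2 (omz_le Q hq) hq1 hdo e)
  obtain ⟨hle4, d, hdM, hd1, hdo⟩ := card_le_relIndex_sq M V ((omz_le Q).trans (O2_le M)) hVM haM ha2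
    (fun N hN hn h2 hmem => haQ (le_O2 hN hn h2 hmem)) hfix A (fun x hx => hA.2.1.comm haA hx)
  have hVle : Nat.card V ≤ 4 := hle4.trans (by
    calc A.relIndex V ^ 2 ≤ 2 ^ 2 := Nat.pow_le_pow_left hVA 2
      _ = 4 := rfl)
  have hdV : ∀ v ∈ V, d * v * d⁻¹ ∈ V := hVM d hdM
  -- the map of `d` on `V` has no fixed point except `1`
  have hdfix : ∀ v ∈ V, d * v * d⁻¹ = v → v = 1 := fun v hv e =>
    hfix d hdM hd1 hdo v hv (mul_inv_eq_iff_eq_mul.1 e)
  obtain ⟨⟨v, hv⟩, hv1⟩ : ∃ v : V, v ≠ 1 := by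
    by_contra h'
    push Not at h'
    exact hV1 ((Subgroup.eq_bot_iff_forall V).2 fun x hx => congrArg Subtype.val (h' ⟨x, hx⟩))
  have hv1' : v ≠ 1 := fun e => hv1 (Subtype.ext e)
  have hdv : d * v * d⁻¹ ≠ v := fun e => hv1' (hdfix v hv e)
  have hdv1 : d * v * d⁻¹ ≠ 1 := fun e => hv1' (by simpa using e)
  have hVcard : Nat.card V = 4 := by
    haveI : Fact (Nat.Prime 2) := ⟨Nat.prime_two⟩
    obtain ⟨k, hk⟩ := IsPGroup.iff_card.1 (hQ2.to_le (omz_le Q))
    have h3 : 3 ≤ Nat.card V := by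
      let g : Fin 3 → V := ![1, ⟨v, hv⟩, ⟨_, hdV v hv⟩]
      have hg : Function.Injective g := by
        intro i j e
        have e' : ((g i : V) : G) = (g j : V) := by rw [e]
        fin_cases i <;> fin_cases j <;>
          simp [g, hv1', hv1'.symm, hdv1, hdv1.symm, hdv, hdv.symm] at e' ⊢
      simpa using Nat.card_le_card_of_injective g hg
    rw [hk] at h3 hVle ⊢
    rcases k with _ | _ | _ | k
    · omega
    · omega
    · rfl
    · have : 8 ≤ 2 ^ (k + 1 + 1 + 1) := by rw [pow_succ, pow_succ, pow_succ]; have := Nat.two_pow_pos k; omega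
      omega
  have hMV : M ≤ normalizer (V : Set G) := fun m hm => by
    rw [mem_normalizer_iff_cj]
    refine Subgroup.eq_of_le_of_card_ge (fun x hx => ?_) (by rw [card_cj])
    obtain ⟨w, hw, rfl⟩ := hx
    exact hVM m hm w hw
  refine ⟨V, ⟨hVcard, elem_omz Q, ?_, ?_, ?_⟩, hVT, hMV⟩
  · intro w hw hw2 hwc
    have hC2 : IsPGroup 2 ↥(centralizer (V : Set G)) :=
      H.centralizer_isPGroup (hQ2.to_le (omz_le Q)) hV1
    have hQC : Q ≤ centralizer (V : Set G) := fun q hq =>
      Subgroup.mem_centralizer_iff.2 fun u hu => hu.2.2 q hq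
    have hwM : w ∈ M := by
      have h1 : w ∈ centralizer (D : Set G) :=
        Subgroup.mem_centralizer_iff.2 fun x hx => (hwc x (hQC (hDQ hx))).symm
      exact centralizer_le_normalizer D h1
    have hwQ : w ∈ Q := le_O2 (inf_le_right : centralizer (V : Set G) ⊓ M ≤ M)
      (fun m hm n hn => ⟨Natural.centralizer_conj (hMV hm) hn.1,
        M.mul_mem (M.mul_mem hm hn.2) (M.inv_mem hm)⟩) (hC2.to_le inf_le_left) ⟨hw, hwM⟩
    exact ⟨hwQ, hw2, fun q hq => hwc q (hQC hq)⟩
  · -- an element of order three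
    have hdN := hMV hdM
    have : d ^ 3 ∈ centralizer (V : Set G) := by
      rw [Subgroup.mem_centralizer_iff]
      intro u hu
      by_cases hu1 : u = 1
      · rw [hu1, one_mul, mul_one]
      -- the orbit of `u` has three elements
      have key : ∀ x ∈ V, x ≠ 1 → d * (d * x * d⁻¹) * d⁻¹ = x * (d * x * d⁻¹) := by
        intro x hx hx1
        have h1 := hdV x hx
        have h2 := hdV _ h1
        have hne1 : d * x * d⁻¹ ≠ x := fun e => hx1 (hdfix x hx e)
        have hne2 : d * x * d⁻¹ ≠ 1 := fun e => hx1 (by simpa using e)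
        have hne3 : d * (d * x * d⁻¹) * d⁻¹ ≠ d * x * d⁻¹ := fun e => hne2 (hdfix _ h1 e)
        have hne4 : d * (d * x * d⁻¹) * d⁻¹ ≠ 1 := fun e => hne2 (by simpa using e)
        have hne5 : d * (d * x * d⁻¹) * d⁻¹ ≠ x := by
          intro e
          refine hx1 (hfix (d ^ 2) (M.pow_mem hdM 2) ?_ (Odd.of_dvd_nat hdo (orderOf_pow_dvd 2)) x hx ?_)
          · intro h2'
            have h2d : orderOf d ∣ 2 := orderOf_dvd_of_pow_eq_one h2'
            rcases (Nat.dvd_prime Nat.prime_two).1 h2d with e' | e'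
            · exact hd1 (orderOf_eq_one_iff.1 e')
            · rw [e'] at hdo; exact absurd hdo (by decide)
          · calc d ^ 2 * x = (d * (d * x * d⁻¹) * d⁻¹) * d ^ 2 := by rw [pow_two]; group
              _ = x * d ^ 2 := by rw [e]
        by_contra hcon
        have hxx : x * (d * x * d⁻¹) ≠ 1 := fun e => hne1 (by
          calc d * x * d⁻¹ = x * (x * (d * x * d⁻¹)) := by rw [← mul_assoc, elem_omz Q x hx, one_mul]
            _ = x := by rw [e, mul_one])
        have hxy : x * (d * x * d⁻¹) ≠ x := fun e => hne2 (by simpa using e)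
        have hxz : x * (d * x * d⁻¹) ≠ d * x * d⁻¹ := fun e => hx1 (by simpa using e)
        let g : Fin 5 → V := ![1, ⟨x, hx⟩, ⟨_, h1⟩, ⟨_, h2⟩, ⟨_, V.mul_mem hx h1⟩]
        have hg : Function.Injective g := by
          intro i j e
          have e' : ((g i : V) : G) = (g j : V) := by rw [e]
          fin_cases i <;> fin_cases j <;> first
            | rfl
            | (simp only [g] at e'
               simp at e'
               first
                 | exact absurd e' hx1 | exact absurd e'.symm hx1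
                 | exact absurd e' hne1 | exact absurd e'.symm hne1
                 | exact absurd e' hne2 | exact absurd e'.symm hne2
                 | exact absurd e' hne3 | exact absurd e'.symm hne3
                 | exact absurd e' hne4 | exact absurd e'.symm hne4
                 | exact absurd e' hne5 | exact absurd e'.symm hne5
                 | exact absurd e' hxx | exact absurd e'.symm hxx
                 | exact absurd e' hxy | exact absurd e'.symm hxy
                 | exact absurd e' hxz | exact absurd e'.symm hxz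
                 | exact absurd e' hcon | exact absurd e'.symm hcon)
        have := Nat.card_le_card_of_injective g hg
        simp [hVcard] at this
      have h1 := hdV u hu
      have k1 := key u hu hu1
      have k2 := key _ h1 (fun e => hu1 (by simpa using e))
      have h3 : d * (d * (d * u * d⁻¹) * d⁻¹) * d⁻¹ = u := by
        rw [k2, k1, ← mul_assoc, Elem.comm (elem_omz Q) h1 hu, mul_assoc,
          elem_omz Q _ h1, mul_one]
      calc u * d ^ 3 = d * (d * (d * u * d⁻¹) * d⁻¹) * d⁻¹ * d ^ 3 := by rw [h3]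
        _ = d ^ 3 * u := by simp only [pow_succ, pow_zero, one_mul]; group
    have hd31 : d ^ 3 = 1 := by
      obtain ⟨j, hj⟩ := H.centralizer_isPGroup (hQ2.to_le (omz_le Q)) hV1 ⟨_, this⟩
      have h1 : orderOf (d ^ 3) ∣ 2 ^ j := orderOf_dvd_of_pow_eq_one (congrArg Subtype.val hj)
      obtain ⟨l, -, hl⟩ := (Nat.dvd_prime_pow Nat.prime_two).1 h1
      have hodd : Odd (orderOf (d ^ 3)) := Odd.of_dvd_nat hdo (orderOf_pow_dvd 3)
      rcases Nat.eq_zero_or_pos l with rfl | h0
      · exact orderOf_eq_one_iff.1 (by rw [hl, pow_zero])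
      · rw [hl, Nat.odd_pow_iff h0.ne'] at hodd
        exact absurd hodd (by decide)
    exact ⟨d, hdN, orderOf_eq_prime hd31 hd1⟩
  · refine ⟨a, hMV haM, fun haC => ?_, 1, by rw [ha2]; rfl⟩
    have hsub : centralizer (V : Set G) ⊓ M ≤ M := inf_le_right
    exact haQ (le_O2 hsub (fun m hm n hn => ⟨Natural.centralizer_conj (hMV hm) hn.1,
      M.mul_mem (M.mul_mem hm hn.2) (M.inv_mem hm)⟩)
      ((H.centralizer_isPGroup (hQ2.to_le (omz_le Q)) hV1).to_le inf_le_left) ⟨haC, haM⟩)

/-- Two natural four-groups with a common Sylow 2-subgroup of their normalisers: the first is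
self-centralising. -/
theorem Hyp.self_centralizing_of_pair (H : Hyp G) {V V' T : Subgroup G} (hV : Natural V)
    (hV' : Natural V') (hne : V' ≠ V) (hT : IsSyl T (normalizer (V : Set G)))
    (hT' : IsSyl T (normalizer (V' : Set G))) : centralizer (V : Set G) = V := by
  classical
  set Q := centralizer (V : Set G) with hQ
  set Q' := centralizer (V' : Set G) with hQ'
  have hQT : Q ≤ T := hV.centralizer_le_syl H hT
  have hQ'T : Q' ≤ T := hV'.centralizer_le_syl H hT'
  have hQQ' : Nat.card Q' = Nat.card Q := by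
    have h1 : Nat.card T = 2 * Nat.card Q := hV.card_syl H hT
    have h2 : Nat.card T = 2 * Nat.card Q' := hV'.card_syl H hT'
    omega
  have hneQ : Q' ≠ Q := fun e => by
    refine hne (Subgroup.eq_of_le_of_card_ge (fun w hw => hV.self w ?_ (hV'.elem w hw) ?_)
      (by rw [hV.card, hV'.card]))
    · rw [← hQ, ← e]; exact hV'.le_centralizer hw
    · intro q hq
      rw [← hQ, ← e] at hq
      exact Subgroup.mem_centralizer_iff.1 hq w hw
  obtain ⟨σ, hσN, hσ3, hσQ, hσfix⟩ := hV.exists_sigma H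
  set N := normalizer (V : Set G) with hN
  have hO : O2 N ≤ Q := by
    intro x hx
    by_contra hxQ
    have hsub : cj σ (O2 N) = O2 N := Subgroup.eq_of_le_of_card_ge
      (fun y hy => by obtain ⟨q, hq, rfl⟩ := hy; exact O2_conj σ hσN q hq) (by rw [card_cj])
    have hxT : x ∈ T := O2_le_syl hT hx
    -- `T = Q · O₂(N)` is normalised by `σ`
    obtain ⟨z, hzV, hz1, hzT, huniq⟩ := hV.exists_fixed H hT
    have hidx : (Q.subgroupOf T).index = 2 := by
      have := Subgroup.card_mul_index (Q.subgroupOf T)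
      rw [Nat.card_congr (Subgroup.subgroupOfEquivOfLe hQT).toEquiv, hV.card_syl H hT,
        mul_comm 2] at this
      exact Nat.eq_of_mul_eq_mul_left Nat.card_pos this
    have hσz : σ * z * σ⁻¹ ∈ V := (Subgroup.mem_normalizer_iff.1 hσN z).1 hzV
    have hfix : ∀ t ∈ T, t * (σ * z * σ⁻¹) = σ * z * σ⁻¹ * t := by
      intro t ht
      have hx' : σ⁻¹ * x * σ ∈ T := by
        rw [← hsub, mem_cj] at hx
        exact O2_le_syl hT hx
      have hxz : x * (σ * z * σ⁻¹) = σ * z * σ⁻¹ * x := by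
        calc x * (σ * z * σ⁻¹) = σ * ((σ⁻¹ * x * σ) * z) * σ⁻¹ := by group
          _ = _ := by rw [hzT _ hx']; group
      by_cases htQ : t ∈ Q
      · exact (Subgroup.mem_centralizer_iff.1 htQ _ hσz).symm
      · have hq : x⁻¹ * t ∈ Q := (Subgroup.mul_mem_iff_of_index_two hidx
          (a := (⟨x, hxT⟩ : T)⁻¹) (b := ⟨t, ht⟩)).2
          ⟨fun e => absurd ((Q.subgroupOf T).inv_mem_iff.1 e) hxQ, fun e => absurd e htQ⟩
        have h2 := (Subgroup.mem_centralizer_iff.1 hq _ hσz).symm
        calc t * (σ * z * σ⁻¹) = x * ((x⁻¹ * t) * (σ * z * σ⁻¹)) := by group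
          _ = (x * (σ * z * σ⁻¹)) * (x⁻¹ * t) := by rw [h2]; group
          _ = σ * z * σ⁻¹ * t := by rw [hxz]; group
    rcases huniq _ hσz hfix with e | e
    · exact hz1 (by simpa using e)
    · exact hz1 (hσfix z (hV.le_centralizer hzV) e)
  have hfixN : ∀ d ∈ N, d ≠ 1 → Odd (orderOf d) → ∀ q ∈ Q, d * q = q * d → q = 1 :=
    fun d _ hd1 hdo q hq e => hV.fpf H hdo hd1 hq e
  by_cases hsub : V' ≤ Q
  · exfalso
    have hQn : ∀ q ∈ Q, ∀ u ∈ V', q * u * q⁻¹ ∈ V' := fun q hq u hu =>
      (Subgroup.mem_normalizer_iff.1 (hT'.1 (hQT hq)) u).1 hu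
    obtain ⟨z', hz'V, hz'1, hz'T, hz'uniq⟩ := hV'.exists_fixed H hT'
    -- elements of `V'` central in `Q` are fixed by `T`
    have hcent : ∀ u ∈ V', (∀ q ∈ Q, q * u = u * q) → ∀ t ∈ T, t * u = u * t := by
      intro u hu hc
      obtain ⟨q₀, hq₀, hq₀'⟩ : ∃ q ∈ Q, q ∉ Q' := by
        by_contra h'
        push Not at h'
        exact hneQ (Subgroup.eq_of_le_of_card_ge h' hQQ'.le).symm
      have hidx : (Q'.subgroupOf T).index = 2 := by
        have := Subgroup.card_mul_index (Q'.subgroupOf T)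
        rw [Nat.card_congr (Subgroup.subgroupOfEquivOfLe hQ'T).toEquiv, hV'.card_syl H hT',
          mul_comm 2] at this
        exact Nat.eq_of_mul_eq_mul_left Nat.card_pos this
      intro t ht
      by_cases htQ : t ∈ Q'
      · exact (Subgroup.mem_centralizer_iff.1 htQ u hu).symm
      · have hq : q₀⁻¹ * t ∈ Q' := (Subgroup.mul_mem_iff_of_index_two hidx
          (a := (⟨q₀, hQT hq₀⟩ : T)⁻¹) (b := ⟨t, ht⟩)).2
          ⟨fun e => absurd ((Q'.subgroupOf T).inv_mem_iff.1 e) hq₀', fun e => absurd e htQ⟩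
        have h2 := (Subgroup.mem_centralizer_iff.1 hq u hu).symm
        calc t * u = q₀ * ((q₀⁻¹ * t) * u) := by group
          _ = (q₀ * u) * (q₀⁻¹ * t) := by rw [h2]; group
          _ = u * t := by rw [hc q₀ hq₀]; group
    have hinf : ∀ u ∈ V', σ * u * σ⁻¹ ∈ V' → u = 1 := by
      by_contra hcon
      push Not at hcon
      obtain ⟨u, hu, hσu, hu1⟩ := hcon
      set W := V' ⊓ cj σ V' with hW
      have hWQ : W ≤ Q := inf_le_left.trans hsub
      have hW1 : W ≠ ⊥ := fun e => hu1 (by
        have hmem : σ * u * σ⁻¹ ∈ W := ⟨hσu, conj_mem_cj hu⟩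
        rw [e, Subgroup.mem_bot] at hmem
        simpa using hmem)
      haveI hWn : (W.subgroupOf Q).Normal := ⟨fun w hw q => by
        refine ⟨hQn q q.2 w hw.1, mem_cj.2 ?_⟩
        obtain ⟨q', hq'⟩ : σ⁻¹ * (q : G) * σ ∈ Q ∧ True := by
          refine ⟨?_, trivial⟩
          have h1 := Natural.centralizer_conj (N.inv_mem hσN) q.2
          rwa [inv_inv] at h1
        have := hQn _ q' _ (mem_cj.1 hw.2)
        simpa [mul_assoc] using this⟩
      have hWp : W.subgroupOf Q ≠ ⊥ := by
        rw [ne_eq, Subgroup.subgroupOf_eq_bot, disjoint_iff, inf_eq_left.2 hWQ]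
        exact hW1
      haveI : Fact (Nat.Prime 2) := ⟨Nat.prime_two⟩
      haveI := (hV.centralizer_isPGroup H).isNilpotent
      obtain ⟨⟨w, hw⟩, hw1⟩ : ∃ w : ↥(W.subgroupOf Q ⊓ center ↥Q), w ≠ 1 := by
        have hne' := CfsgLib.Solvable.FrattiniFitting.inf_center_ne_bot (W.subgroupOf Q) hWp
        by_contra h'
        push Not at h'
        exact hne' ((Subgroup.eq_bot_iff_forall _).2 fun x hx =>
          congrArg Subtype.val (h' ⟨x, hx⟩))
      have hwc : ∀ q ∈ Q, q * (w : G) = w * q := fun q hq =>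
        congrArg Subtype.val (Subgroup.mem_center_iff.1 hw.2 ⟨q, hq⟩)
      have hwV : (w : G) ∈ V' := hw.1.1
      have hwσ : σ⁻¹ * (w : G) * σ ∈ V' := mem_cj.1 hw.1.2
      refine hw1 (Subtype.ext (Subtype.ext (hV.eq_one_of_commute_conj H hT hσN hσ3 w.2
        (hcent _ hwV hwc) fun t ht => ?_)))
      have h1 := hcent _ hwσ (fun q hq => by
        have h := hwc _ (hσQ q hq)
        calc q * (σ⁻¹ * (w : G) * σ) = σ⁻¹ * ((σ * q * σ⁻¹) * w) * σ := by group
          _ = σ⁻¹ * (w : G) * σ * q := by rw [h]; group) t ht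
      calc σ * t * σ⁻¹ * (w : G) = σ * (t * (σ⁻¹ * (w : G) * σ)) * σ⁻¹ := by group
        _ = (w : G) * (σ * t * σ⁻¹) := by rw [h1]; group
    have hcomm := centralizes_of_inf_conj Q V' (by rw [← hσ3, pow_orderOf_eq_one]) hσQ hσfix hsub
      hQn hinf
    refine hneQ (Subgroup.eq_of_le_of_card_ge (fun q hq => ?_) hQQ'.le).symm
    exact Subgroup.mem_centralizer_iff.2 fun u hu => (hcomm q hq u hu).symm
  · obtain ⟨v, hv, hvQ⟩ := SetLike.not_le_iff_exists.1 hsub
    have hvT : v ∈ T := hQ'T (hV'.le_centralizer hv)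
    have hv2 : orderOf v = 2 :=
      orderOf_eq_prime (by rw [pow_two]; exact hV'.elem v hv) fun e => hvQ (e ▸ Q.one_mem)
    obtain ⟨hle, -⟩ := card_le_relIndex_sq N Q (centralizer_le_normalizer V)
      (fun m hm q hq => Natural.centralizer_conj hm hq) (hT.1 hvT) hv2
      (fun W hW hn h2 hmem => hvQ (hO (le_O2 hW hn h2 hmem))) hfixN Q'
      (fun x hx => Subgroup.mem_centralizer_iff.1 hx v hv)
    have hrel : Q'.relIndex Q ≤ 2 := by
      have hidx : (Q'.subgroupOf T).index = 2 := by
        have := Subgroup.card_mul_index (Q'.subgroupOf T)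
        rw [Nat.card_congr (Subgroup.subgroupOfEquivOfLe hQ'T).toEquiv, hV'.card_syl H hT',
          mul_comm 2] at this
        exact Nat.eq_of_mul_eq_mul_left Nat.card_pos this
      exact (Subgroup.relIndex_le_of_le_right hQT
        (Subgroup.index_ne_zero_of_finite (H := Q'.subgroupOf T))).trans hidx.le
    refine (Subgroup.eq_of_le_of_card_ge hV.le_centralizer ?_).symm
    rw [hV.card]
    exact hle.trans (by
      calc Q'.relIndex Q ^ 2 ≤ 2 ^ 2 := Nat.pow_le_pow_left hrel 2
        _ = 4 := rfl)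

end CfsgLib.Recognition.PrimeOrders
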