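import Cfsg.Agent.Lib.Recognition.PrimeOrders.Basic
import Cfsg.Agent.S0144

/-!
The 2-local subgroups in which the Thompson subgroup is not normal: they normalise a four-group
`V` with `N(V)/C(V) ≅ Sym(3)`.
-/

set_option autoImplicit false

open Subgroup

namespace CfsgLib.Recognition.PrimeOrders

variable {G : Type*} [Group G] [Finite G]

/-- A four-group `V = Ω₁Z(C(V))` on whose nonidentity elements its normalizer acts as `Sym(3)`. -/
structure Natural (V : Subgroup G) : Prop where
  card : Nat.card V = 4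
  elem : Elem V
  self : ∀ w ∈ centralizer (V : Set G), w * w = 1 →
    (∀ q ∈ centralizer (V : Set G), w * q = q * w) → w ∈ V
  ord : ∃ σ ∈ normalizer (V : Set G), orderOf σ = 3
  even : ∃ s ∈ normalizer (V : Set G), s ∉ centralizer (V : Set G) ∧ ∃ k, orderOf s = 2 ^ k

omit [Finite G] in
theorem centralizer_le_normalizer (V : Subgroup G) :
    centralizer (V : Set G) ≤ normalizer (V : Set G) := fun c hc => by
  rw [Subgroup.mem_centralizer_iff] at hc
  rw [Subgroup.mem_normalizer_iff]
  intro x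
  constructor
  · intro hx
    rwa [← hc x hx, mul_inv_cancel_right]
  · intro hx
    have h1 := hc _ hx
    have e : x = c * x * c⁻¹ := by
      calc x = c⁻¹ * ((c * x * c⁻¹) * c) := by group
        _ = c⁻¹ * (c * (c * x * c⁻¹)) := by rw [h1]
        _ = c * x * c⁻¹ := by group
    rwa [e]

namespace Natural

variable {V : Subgroup G}

theorem ne_bot (h : Natural V) : V ≠ ⊥ := fun e => by
  have := h.card
  rw [e, Subgroup.card_bot] at this
  omega

theorem le_centralizer (h : Natural V) : V ≤ centralizer (V : Set G) := fun v hv => by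
  rw [Subgroup.mem_centralizer_iff]
  exact fun u hu => h.elem.comm hu hv

theorem centralizer_isPGroup (h : Natural V) (H : Hyp G) :
    IsPGroup 2 ↥(centralizer (V : Set G)) :=
  H.centralizer_isPGroup h.elem.isPGroup h.ne_bot

omit [Finite G] in
theorem centralizer_conj {m : G} (hm : m ∈ normalizer (V : Set G)) {q : G}
    (hq : q ∈ centralizer (V : Set G)) : m * q * m⁻¹ ∈ centralizer (V : Set G) := by
  rw [Subgroup.mem_centralizer_iff] at hq ⊢
  intro u hu
  have h1 : m⁻¹ * u * m ∈ V := by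
    have := (Subgroup.mem_normalizer_iff.1 ((normalizer (V : Set G)).inv_mem hm) u).1 hu
    rwa [inv_inv] at this
  have := hq _ h1
  calc u * (m * q * m⁻¹) = m * ((m⁻¹ * u * m) * q) * m⁻¹ := by group
    _ = (m * q * m⁻¹) * u := by rw [this]; group

theorem fpf (h : Natural V) (H : Hyp G) {d : G} (hd : Odd (orderOf d)) (hd1 : d ≠ 1) {q : G}
    (hq : q ∈ centralizer (V : Set G)) (e : d * q = q * d) : q = 1 := by
  by_contra hq1
  exact hd1 (H.eq_one_of_commute (h.centralizer_isPGroup H) hq hq1 hd e)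

theorem exists_sigma (h : Natural V) (H : Hyp G) :
    ∃ σ ∈ normalizer (V : Set G), orderOf σ = 3 ∧
      (∀ x ∈ centralizer (V : Set G), σ * x * σ⁻¹ ∈ centralizer (V : Set G)) ∧
      ∀ x ∈ centralizer (V : Set G), σ * x * σ⁻¹ = x → x = 1 := by
  obtain ⟨σ, hσ, h3⟩ := h.ord
  refine ⟨σ, hσ, h3, fun x hx => centralizer_conj hσ hx, fun x hx e => ?_⟩
  refine h.fpf H (d := σ) (by rw [h3]; decide) (fun e1 => ?_) hx (mul_inv_eq_iff_eq_mul.1 e)
  rw [e1, orderOf_one] at h3
  omega

theorem card_normalizer (h : Natural V) (H : Hyp G) :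
    Nat.card ↥(normalizer (V : Set G)) = 6 * Nat.card ↥(centralizer (V : Set G)) := by
  classical
  set φ := V.normalizerMonoidHom
  have hker : φ.ker = (centralizer (V : Set G)).subgroupOf (normalizer (V : Set G)) :=
    V.normalizerMonoidHom_ker
  have hle := centralizer_le_normalizer V
  have hcard : Nat.card φ.range * Nat.card φ.ker = Nat.card ↥(normalizer (V : Set G)) := by
    rw [← Subgroup.card_mul_index φ.ker, Subgroup.index_ker, mul_comm]
  have hupper : Nat.card φ.range ≤ 6 := by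
    refine (Subgroup.card_le_card_group _).trans ?_
    let ψ : MulAut V → Equiv.Perm {v : V // v ≠ 1} := fun α =>
      { toFun := fun v => ⟨α v, fun e => v.2 (α.injective (e.trans (map_one α).symm))⟩
        invFun := fun v => ⟨α.symm v, fun e => v.2 (α.symm.injective (e.trans (map_one α.symm).symm))⟩
        left_inv := fun v => Subtype.ext (α.symm_apply_apply v)
        right_inv := fun v => Subtype.ext (α.apply_symm_apply v) }
    have hψ : Function.Injective ψ := by
      intro α β e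
      ext v
      by_cases hv : v = 1
      · rw [hv, map_one, map_one]
      · exact congrArg (fun x : {v : V // v ≠ 1} => ((x : V) : G)) (congrFun (congrArg DFunLike.coe e) ⟨v, hv⟩)
    refine (Nat.card_le_card_of_injective ψ hψ).trans_eq ?_
    haveI := Fintype.ofFinite V
    have h3 : Fintype.card {v : V // v ≠ 1} = 3 := by
      rw [Fintype.card_subtype_compl, Fintype.card_subtype_eq, ← Nat.card_eq_fintype_card, h.card]
    rw [Nat.card_perm, Nat.card_eq_fintype_card, h3]
    rfl
  have h6 : 6 ∣ Nat.card φ.range := by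
    obtain ⟨σ, hσ, h3⟩ := h.ord
    obtain ⟨s, hs, hsC, k, hk⟩ := h.even
    have d3 : 3 ∣ Nat.card φ.range := by
      have hne : φ ⟨σ, hσ⟩ ≠ 1 := by
        intro e
        have hmem : (⟨σ, hσ⟩ : normalizer (V : Set G)) ∈ φ.ker := e
        rw [hker, Subgroup.mem_subgroupOf] at hmem
        obtain ⟨j, hj⟩ := h.centralizer_isPGroup H ⟨σ, hmem⟩
        have hd : 3 ∣ 2 ^ j := h3 ▸ orderOf_dvd_of_pow_eq_one (congrArg Subtype.val hj)
        exact absurd (Nat.prime_three.dvd_of_dvd_pow hd) (by decide)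
      have hd : orderOf (φ ⟨σ, hσ⟩) ∣ 3 := by
        refine h3 ▸ ?_
        rw [← Subgroup.orderOf_mk σ hσ]
        exact orderOf_map_dvd φ _
      rcases (Nat.dvd_prime Nat.prime_three).1 hd with e | e
      · exact absurd (orderOf_eq_one_iff.1 e) hne
      · exact e ▸ Subgroup.orderOf_dvd_natCard _ ⟨_, rfl⟩
    have d2 : 2 ∣ Nat.card φ.range := by
      have hne : φ ⟨s, hs⟩ ≠ 1 := by
        intro e
        have hmem : (⟨s, hs⟩ : normalizer (V : Set G)) ∈ φ.ker := e
        rw [hker, Subgroup.mem_subgroupOf] at hmem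
        exact hsC hmem
      have hd : orderOf (φ ⟨s, hs⟩) ∣ 2 ^ k := by
        refine hk ▸ ?_
        rw [← Subgroup.orderOf_mk s hs]
        exact orderOf_map_dvd φ _
      obtain ⟨j, -, hj⟩ := (Nat.dvd_prime_pow Nat.prime_two).1 hd
      rcases Nat.eq_zero_or_pos j with rfl | hpos
      · rw [pow_zero] at hj
        exact absurd (orderOf_eq_one_iff.1 hj) hne
      · exact (dvd_pow_self 2 hpos.ne').trans (hj ▸ Subgroup.orderOf_dvd_natCard _ ⟨_, rfl⟩)
    exact (Nat.Coprime.mul_dvd_of_dvd_of_dvd (by norm_num) d2 d3 : 2 * 3 ∣ _)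
  have hr : Nat.card φ.range = 6 :=
    le_antisymm hupper (Nat.le_of_dvd Nat.card_pos h6)
  rw [← hcard, hr, hker, Nat.card_congr (Subgroup.subgroupOfEquivOfLe hle).toEquiv]

theorem card_syl (h : Natural V) (H : Hyp G) {T : Subgroup G}
    (hT : IsSyl T (normalizer (V : Set G))) :
    Nat.card T = 2 * Nat.card ↥(centralizer (V : Set G)) := by
  haveI : Fact (Nat.Prime 2) := ⟨Nat.prime_two⟩
  obtain ⟨a, ha⟩ := IsPGroup.iff_card.1 (h.centralizer_isPGroup H)
  have hN := h.card_normalizer H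
  obtain ⟨b, hb⟩ := IsPGroup.iff_card.1 hT.2.1
  have hlo : 2 ^ (a + 1) ≤ Nat.card T := by
    obtain ⟨P, hP⟩ := Sylow.exists_subgroup_card_pow_prime (G := ↥(normalizer (V : Set G))) 2
      (n := a + 1) (by rw [hN, ha, pow_succ]; exact ⟨3, by ring⟩)
    have hc : Nat.card (P.map (normalizer (V : Set G)).subtype) = 2 ^ (a + 1) := by
      rw [Nat.card_congr (P.equivMapOfInjective _ (normalizer (V : Set G)).subtype_injective).symm.toEquiv, hP]
    exact hc ▸ hT.2.2 _ (Subgroup.map_subtype_le _) (IsPGroup.of_card hc)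
  have hhi : b ≤ a + 1 := by
    have hd := Subgroup.card_dvd_of_le hT.1
    rw [hN, ha, hb, show 6 * 2 ^ a = 2 ^ (a + 1) * 3 by ring] at hd
    exact (Nat.pow_dvd_pow_iff_le_right one_lt_two).1
      ((Nat.Coprime.dvd_mul_right (Nat.Coprime.pow_left _ (by norm_num))).1 hd)
  rw [hb] at hlo ⊢
  have : a + 1 ≤ b := (Nat.pow_le_pow_iff_right one_lt_two).1 hlo
  rw [ha, show b = a + 1 by omega, pow_succ, mul_comm]

theorem centralizer_le_syl (h : Natural V) (H : Hyp G) {T : Subgroup G}
    (hT : IsSyl T (normalizer (V : Set G))) : centralizer (V : Set G) ≤ T := by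
  have hle := centralizer_le_normalizer V
  exact le_trans (le_O2 hle (fun m hm n hn => centralizer_conj hm hn) (h.centralizer_isPGroup H))
    (O2_le_syl hT)

/-- A Sylow 2-subgroup of `N(V)` fixes exactly one involution of `V`. -/
theorem exists_fixed (h : Natural V) (H : Hyp G) {T : Subgroup G}
    (hT : IsSyl T (normalizer (V : Set G))) :
    ∃ z ∈ V, z ≠ 1 ∧ (∀ t ∈ T, t * z = z * t) ∧
      ∀ w ∈ V, (∀ t ∈ T, t * w = w * t) → w = 1 ∨ w = z := by
  classical
  set C := centralizer (V : Set G) with hC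
  have hCT : C ≤ T := h.centralizer_le_syl H hT
  have hidx : (C.subgroupOf T).index = 2 := by
    have := Subgroup.card_mul_index (C.subgroupOf T)
    rw [Nat.card_congr (Subgroup.subgroupOfEquivOfLe hCT).toEquiv, h.card_syl H hT,
      mul_comm 2] at this
    exact Nat.eq_of_mul_eq_mul_left Nat.card_pos this
  obtain ⟨s, hsT, hsC⟩ : ∃ s ∈ T, s ∉ C := by
    by_contra h'
    push Not at h'
    rw [Subgroup.subgroupOf_eq_top.2 h', Subgroup.index_top] at hidx
    omega
  have hs2 : s * s ∈ C := Subgroup.mul_self_mem_of_index_two hidx ⟨s, hsT⟩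
  have hdec : ∀ t ∈ T, t ∈ C ∨ s⁻¹ * t ∈ C := fun t ht => by
    by_cases htC : t ∈ C
    · exact Or.inl htC
    · right
      have h1 := (Subgroup.mul_mem_iff_of_index_two hidx (a := (⟨s, hsT⟩ : T)⁻¹) (b := ⟨t, ht⟩)).2
        ⟨fun e => absurd ((C.subgroupOf T).inv_mem_iff.1 e) hsC, fun e => absurd e htC⟩
      exact h1
  have hsN : s ∈ normalizer (V : Set G) := hT.1 hsT
  obtain ⟨u, hu, hus⟩ : ∃ u ∈ V, s * u * s⁻¹ ≠ u := by
    by_contra h'
    push Not at h'
    exact hsC (Subgroup.mem_centralizer_iff.2 fun v hv => (mul_inv_eq_iff_eq_mul.1 (h' v hv)).symm)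
  have huV : s * u * s⁻¹ ∈ V := (Subgroup.mem_normalizer_iff.1 hsN u).1 hu
  have huu : s * (s * u * s⁻¹) * s⁻¹ = u := by
    have := (Subgroup.mem_centralizer_iff.1 hs2 u hu)
    calc s * (s * u * s⁻¹) * s⁻¹ = (s * s) * u * (s * s)⁻¹ := by group
      _ = u := by rw [← this, mul_inv_cancel_right]
  set z := u * (s * u * s⁻¹) with hz
  have hzV : z ∈ V := V.mul_mem hu huV
  have hz1 : z ≠ 1 := by
    intro e
    apply hus
    calc s * u * s⁻¹ = u * z := by rw [hz, ← mul_assoc, h.elem u hu, one_mul]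
      _ = u := by rw [e, mul_one]
  have hsz : s * z = z * s := by
    refine mul_inv_eq_iff_eq_mul.1 ?_
    calc s * z * s⁻¹ = (s * u * s⁻¹) * (s * (s * u * s⁻¹) * s⁻¹) := by rw [hz]; group
      _ = z := by rw [huu, hz]; exact h.elem.comm huV hu
  have hfix : ∀ t ∈ T, t * z = z * t := by
    intro t ht
    rcases hdec t ht with h1 | h1
    · exact (Subgroup.mem_centralizer_iff.1 h1 z hzV).symm
    · have h2 : (s⁻¹ * t) * z = z * (s⁻¹ * t) := (Subgroup.mem_centralizer_iff.1 h1 z hzV).symm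
      calc t * z = s * ((s⁻¹ * t) * z) := by group
        _ = (s * z) * (s⁻¹ * t) := by rw [h2]; group
        _ = z * t := by rw [hsz]; group
  refine ⟨z, hzV, hz1, hfix, fun w hw hwT => ?_⟩
  by_contra hcon
  push Not at hcon
  set W := V ⊓ centralizer (T : Set G) with hW
  have hmem : ∀ v ∈ V, (∀ t ∈ T, t * v = v * t) → v ∈ W := fun v hv hvT =>
    ⟨hv, Subgroup.mem_centralizer_iff.2 hvT⟩
  have h3 : 3 ≤ Nat.card W := by
    let f : Fin 3 → W := ![1, ⟨z, hmem z hzV hfix⟩, ⟨w, hmem w hw hwT⟩]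
    have hf : Function.Injective f := by
      intro a b e
      have e' : ((f a : W) : G) = (f b : W) := by rw [e]
      fin_cases a <;> fin_cases b <;>
        simp [f, hz1, hz1.symm, hcon.1, hcon.1.symm, hcon.2, hcon.2.symm] at e' ⊢
    simpa using Nat.card_le_card_of_injective f hf
  have h4 : Nat.card W ∣ 4 := h.card ▸ Subgroup.card_dvd_of_le inf_le_left
  have hWV : W = V := by
    refine Subgroup.eq_of_le_of_card_ge inf_le_left ?_
    rw [h.card]
    have := Nat.le_of_dvd (by norm_num) h4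
    rcases h4 with ⟨c, hc⟩
    rcases c with _ | _ | c
    · omega
    · omega
    · nlinarith
  apply hsC
  refine Subgroup.mem_centralizer_iff.2 fun v hv => ?_
  have hvW : v ∈ W := hWV.symm ▸ hv
  exact (Subgroup.mem_centralizer_iff.1 hvW.2 s hsT).symm

/-- Only the identity is centralised by `T` and by its conjugate under an element of order three. -/
theorem eq_one_of_commute_conj (h : Natural V) (H : Hyp G) {T : Subgroup G}
    (hT : IsSyl T (normalizer (V : Set G))) {σ : G} (hσ : σ ∈ normalizer (V : Set G))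
    (h3 : orderOf σ = 3) {w : G} (hw : w ∈ centralizer (V : Set G))
    (h1 : ∀ t ∈ T, t * w = w * t) (h2 : ∀ t ∈ T, (σ * t * σ⁻¹) * w = w * (σ * t * σ⁻¹)) : w = 1 := by
  by_contra hw1
  have hW : zpowers w ≠ ⊥ := by rwa [ne_eq, zpowers_eq_bot]
  have h2W : IsPGroup 2 (zpowers w) :=
    (h.centralizer_isPGroup H).to_le (zpowers_le.2 hw)
  set P := normalizer (V : Set G) ⊓ centralizer ({w} : Set G) with hP
  have hP2 : IsPGroup 2 P := by
    refine (H.centralizer_isPGroup h2W hW).to_le fun x hx => ?_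
    rw [Subgroup.mem_centralizer_iff]
    rintro y ⟨i, rfl⟩
    exact (Commute.zpow_left (Subgroup.mem_centralizer_singleton_iff.1 hx.2).symm i).eq
  have hTP : T ≤ P := fun t ht => ⟨hT.1 ht, Subgroup.mem_centralizer_singleton_iff.2 (h1 t ht)⟩
  have hPT : P = T := (Subgroup.eq_of_le_of_card_ge hTP (hT.2.2 P inf_le_left hP2)).symm
  have hconj : ∀ t ∈ T, σ * t * σ⁻¹ ∈ T := fun t ht => by
    rw [← hPT]
    exact ⟨(normalizer (V : Set G)).mul_mem ((normalizer (V : Set G)).mul_mem hσ (hT.1 ht))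
      ((normalizer (V : Set G)).inv_mem hσ), Subgroup.mem_centralizer_singleton_iff.2 (h2 t ht)⟩
  have hcj : cj σ T = T := Subgroup.eq_of_le_of_card_ge
    (fun x hx => by
      rw [mem_cj] at hx
      simpa [mul_assoc] using hconj _ hx) (by rw [card_cj])
  obtain ⟨z, hzV, hz1, hzT, huniq⟩ := h.exists_fixed H hT
  have hzV' : σ * z * σ⁻¹ ∈ V := (Subgroup.mem_normalizer_iff.1 hσ z).1 hzV
  rcases huniq _ hzV' (fun t ht => by
    have ht' : σ⁻¹ * t * σ ∈ T := mem_cj.1 (hcj.symm ▸ ht)
    calc t * (σ * z * σ⁻¹) = σ * ((σ⁻¹ * t * σ) * z) * σ⁻¹ := by group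
      _ = σ * z * σ⁻¹ * t := by rw [hzT _ ht']; group) with e | e
  · exact hz1 (by simpa using e)
  · exact hz1 (h.fpf H (d := σ) (by rw [h3]; decide)
      (fun e1 => by rw [e1, orderOf_one] at h3; omega) (h.le_centralizer hzV)
      (mul_inv_eq_iff_eq_mul.1 e))

end Natural

end CfsgLib.Recognition.PrimeOrders
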