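import Cfsg.Agent.Lib.Recognition.PrimeOrders.Finish
import Cfsg.Agent.Lib.Recognition.OneToFive.Basic
import Cfsg.Agent.Lib.Coprime.Generation
import Cfsg.Agent.Lib.Classical.Dickson.PSL
import Cfsg.Agent.Lib.Char.FewSylow.Cubed
import Cfsg.Agent.S1475
import Cfsg.Agent.S3992

/-!
Groups in which every element has order a power of two or a prime other than five: `PSL(2, 7)` is
the only one whose order has three prime divisors.
-/

set_option autoImplicit false
set_option linter.unusedSectionVars false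

open Subgroup
open scoped MatrixGroups

namespace CfsgLib.Recognition.PrimeOrders

universe u

/-- Every nontrivial element has 2-power order or prime order different from five. -/
def Ord (G : Type*) [Group G] : Prop :=
  ∀ g : G, g ≠ 1 → (∃ k : ℕ, orderOf g = 2 ^ k) ∨ ((orderOf g).Prime ∧ orderOf g ≠ 5)

variable {G : Type u} [Group G]

theorem Ord.subgroup (h : Ord G) (K : Subgroup G) : Ord K := fun x hx => by
  rw [← Subgroup.orderOf_coe]
  exact h x fun e => hx (Subtype.ext e)

theorem Ord.equiv (h : Ord G) {K : Type*} [Group K] (e : K ≃* G) : Ord K := fun x hx => by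
  rw [← e.orderOf_eq]
  exact h (e x) fun h' => hx (e.injective (by rw [h', map_one]))

theorem Ord.quotient (h : Ord G) (N : Subgroup G) [N.Normal] : Ord (G ⧸ N) := by
  intro x hx
  obtain ⟨g, rfl⟩ := QuotientGroup.mk'_surjective N x
  have hd := orderOf_map_dvd (QuotientGroup.mk' N) g
  rcases h g (fun e => hx (by rw [e, map_one])) with ⟨k, hk⟩ | ⟨hp, h5⟩
  · rw [hk] at hd
    obtain ⟨j, -, hj⟩ := (Nat.dvd_prime_pow Nat.prime_two).1 hd
    exact Or.inl ⟨j, hj⟩
  · rcases (Nat.dvd_prime hp).1 hd with e | e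
    · exact absurd (orderOf_eq_one_iff.1 e) hx
    · rw [e]
      exact Or.inr ⟨hp, h5⟩

variable [Finite G]

theorem Ord.isPrimePow (h : Ord G) {g : G} (hg : g ≠ 1) : IsPrimePow (orderOf g) := by
  rcases h g hg with ⟨k, hk⟩ | ⟨hp, -⟩
  · rcases Nat.eq_zero_or_pos k with rfl | hk0
    · exact absurd (orderOf_eq_one_iff.1 (by rw [hk, pow_zero])) hg
    · exact hk ▸ (Nat.prime_two.isPrimePow).pow hk0.ne'
  · exact hp.isPrimePow

/-- An element of odd prime order commutes only with elements of the same prime order. -/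
theorem Ord.pow_eq_one_of_commute (h : Ord G) {p : ℕ} (hp : p.Prime) (hp2 : p ≠ 2) {x c : G}
    (hx : orderOf x = p) (hc : c * x = x * c) : c ^ p = 1 := by
  by_cases hc1 : c = 1
  · rw [hc1, one_pow]
  have main : ∀ k : ℕ, orderOf c = k → (∀ q : ℕ, q.Prime → q ∣ k → q = p) := by
    intro k hk q hq hqk
    by_contra hqp
    obtain ⟨l, hl⟩ := hqk
    have hl0 : l ≠ 0 := fun e => by
      have := orderOf_pos c
      rw [hk, hl, e, mul_zero] at this
      omega
    have hcl : orderOf (c ^ l) = q := by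
      rw [orderOf_pow' c hl0, hk, hl, Nat.gcd_eq_right (Dvd.intro_left _ rfl),
        Nat.mul_div_cancel _ (Nat.pos_of_ne_zero hl0)]
    have hcomm : Commute (c ^ l) x := Commute.pow_left hc l
    have ho : orderOf (c ^ l * x) = q * p := by
      rw [hcomm.orderOf_mul_eq_mul_orderOf_of_coprime
        (by rw [hcl, hx]; exact (Nat.coprime_primes hq hp).2 hqp), hcl, hx]
    have hne : c ^ l * x ≠ 1 := fun e => by
      rw [e, orderOf_one] at ho
      have : 1 < q * p := by nlinarith [hq.two_le, hp.two_le]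
      omega
    rcases h _ hne with ⟨j, hj⟩ | ⟨hpr, -⟩
    · rw [ho] at hj
      have : p ∣ 2 ^ j := hj ▸ dvd_mul_left p q
      exact hp2 ((Nat.prime_dvd_prime_iff_eq hp Nat.prime_two).1 (hp.dvd_of_dvd_pow this))
    · rw [ho] at hpr
      exact Nat.not_prime_mul hq.ne_one hp.ne_one hpr
  rcases h c hc1 with ⟨k, hk⟩ | ⟨hpr, -⟩
  · exfalso
    rcases Nat.eq_zero_or_pos k with rfl | hk0
    · exact hc1 (orderOf_eq_one_iff.1 (by rw [hk, pow_zero]))
    · exact hp2 (main _ hk 2 Nat.prime_two (dvd_pow_self 2 hk0.ne')).symm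
  · rw [← main _ rfl _ hpr dvd_rfl, pow_orderOf_eq_one]

theorem Ord.cit (h : Ord G) : ∀ t : G, orderOf t = 2 → IsPGroup 2 ↥(centralizer ({t} : Set G)) := by
  rintro t ht ⟨c, hc⟩
  by_cases hc1 : c = 1
  · exact ⟨0, Subtype.ext (by simp [hc1])⟩
  rcases h c hc1 with ⟨k, hk⟩ | ⟨hp, -⟩
  · exact ⟨k, Subtype.ext (by rw [Subgroup.coe_pow, ← hk, pow_orderOf_eq_one]; rfl)⟩
  · by_cases h2 : orderOf c = 2
    · exact ⟨1, Subtype.ext (by rw [Subgroup.coe_pow, pow_one, ← h2, pow_orderOf_eq_one]; rfl)⟩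
    · exfalso
      have := h.pow_eq_one_of_commute hp h2 rfl (Subgroup.mem_centralizer_singleton_iff.1 hc).symm
      have hd : orderOf t ∣ orderOf c := orderOf_dvd_of_pow_eq_one this
      rw [ht] at hd
      exact h2 ((Nat.prime_dvd_prime_iff_eq Nat.prime_two hp).1 hd).symm

/-- The normaliser of a subgroup of odd prime order `p` has order dividing `(p - 1) p ^ i`. -/
theorem Ord.card_normalizer_dvd (h : Ord G) {p : ℕ} (hp : p.Prime) (hp2 : p ≠ 2) {P : Subgroup G}
    (hP : Nat.card P = p) :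
    ∃ i, Nat.card ↥(normalizer (P : Set G)) ∣ (p - 1) * p ^ i := by
  haveI : Fact p.Prime := ⟨hp⟩
  haveI hcyc : IsCyclic P := isCyclic_of_prime_card hP
  obtain ⟨x, hx⟩ := exists_prime_orderOf_dvd_card' (G := P) p (dvd_of_eq hP.symm)
  have hxG : orderOf (x : G) = p := by rw [Subgroup.orderOf_coe, hx]
  have hC : IsPGroup p ↥(centralizer (P : Set G)) := fun c => ⟨1, Subtype.ext (by
    rw [pow_one, Subgroup.coe_pow]
    exact h.pow_eq_one_of_commute hp hp2 hxG
      (Subgroup.mem_centralizer_iff.1 c.2 _ x.2).symm)⟩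
  obtain ⟨i, hi⟩ := IsPGroup.iff_card.1 hC
  refine ⟨i, ?_⟩
  set φ := P.normalizerMonoidHom
  have hcard : Nat.card φ.range * Nat.card φ.ker = Nat.card ↥(normalizer (P : Set G)) := by
    rw [← Subgroup.card_mul_index φ.ker, Subgroup.index_ker, mul_comm]
  rw [← hcard]
  refine mul_dvd_mul ?_ ?_
  · refine (Subgroup.card_subgroup_dvd_card φ.range).trans ?_
    rw [IsCyclic.card_mulAut, hP, Nat.totient_prime hp]
  · rw [V_ker, Nat.card_congr (Subgroup.subgroupOfEquivOfLe (centralizer_le_normalizer P)).toEquiv, hi]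
where
  V_ker {P : Subgroup G} : P.normalizerMonoidHom.ker =
      (centralizer (P : Set G)).subgroupOf (normalizer (P : Set G)) := P.normalizerMonoidHom_ker

/-- A subgroup of odd prime exponent normalising a nontrivial 2-subgroup has at most that order. -/
theorem Ord.card_le_prime (h : Ord G) {r : ℕ} [Fact r.Prime] (hr2 : r ≠ 2) {D L : Subgroup G}
    (hD : IsPGroup 2 D) (hD1 : D ≠ ⊥) (hL : IsPGroup r L) (hLD : L ≤ normalizer (D : Set G)) :
    Nat.card L ≤ r := by
  by_contra hc
  have hexp : ∀ x ∈ L, x ^ r = 1 := by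
    intro x hx
    obtain ⟨k, hk⟩ := hL ⟨x, hx⟩
    have hk' : x ^ r ^ k = 1 := congrArg Subtype.val hk
    by_cases hx1 : x = 1
    · rw [hx1, one_pow]
    obtain ⟨j, -, hj⟩ := (Nat.dvd_prime_pow (Fact.out : r.Prime)).1 (orderOf_dvd_of_pow_eq_one hk')
    rcases h x hx1 with ⟨i, hi⟩ | ⟨hp, -⟩
    · exfalso
      rw [hj] at hi
      rcases Nat.eq_zero_or_pos j with rfl | hj0
      · exact hx1 (orderOf_eq_one_iff.1 (by rw [hj, pow_zero]))
      · exact hr2 ((Nat.prime_dvd_prime_iff_eq (Fact.out : r.Prime) Nat.prime_two).1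
          ((Fact.out : r.Prime).dvd_of_dvd_pow (hi ▸ dvd_pow_self r hj0.ne')))
    · have hj1 : j = 1 := by
        rw [hj] at hp
        exact (Nat.Prime.eq_one_of_pow hp)
      rw [← pow_one r, ← hj1, ← hj, pow_orderOf_eq_one]
  obtain ⟨a, ha, b, hb, ha1, hab, hbn⟩ := OneToFive.exists_pair hexp (not_le.1 hc)
  set A := closure ({a, b} : Set G) with hA
  haveI : IsMulCommutative A := Subgroup.isMulCommutative_closure (by
    rintro x (rfl | rfl) y (rfl | rfl)
    exacts [rfl, hab.eq, hab.eq.symm, rfl])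
  have hAL : A ≤ L := (Subgroup.closure_le _).2 (by
    rintro x (rfl | rfl)
    exacts [ha, hb])
  have haA : a ∈ A := Subgroup.subset_closure (Or.inl rfl)
  have hbA : b ∈ A := Subgroup.subset_closure (Or.inr rfl)
  have hnc : ¬ IsCyclic A := by
    intro hcy
    obtain ⟨⟨w, hwA⟩, hw⟩ := hcy.exists_generator
    have hwo : orderOf w ∣ r := orderOf_dvd_of_pow_eq_one (hexp w (hAL hwA))
    have hsub : A ≤ zpowers w := fun x hx => by
      obtain ⟨n, hn⟩ := Subgroup.mem_zpowers_iff.1 (hw ⟨x, hx⟩)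
      exact ⟨n, by simpa using congrArg Subtype.val hn⟩
    have hcard : Nat.card A ≤ r := by
      refine (Subgroup.card_le_of_le hsub).trans ?_
      rw [Nat.card_zpowers]
      exact Nat.le_of_dvd (Fact.out : r.Prime).pos hwo
    have hao : orderOf a = r := orderOf_eq_prime (hexp a ha) ha1
    have heq : zpowers a = A := Subgroup.eq_of_le_of_card_ge (zpowers_le.2 haA)
      (by rw [Nat.card_zpowers, hao]; exact hcard)
    exact hbn (heq.symm ▸ hbA)
  have hcop : (Nat.card A).Coprime (Nat.card D) := by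
    obtain ⟨i, hi⟩ := IsPGroup.iff_card.1 (hL.to_le hAL)
    obtain ⟨j, hj⟩ := IsPGroup.iff_card.1 hD
    rw [hi, hj]
    exact Nat.Coprime.pow _ _ ((Nat.coprime_primes (Fact.out : r.Prime) Nat.prime_two).2 hr2)
  have hgen := CfsgLib.Coprime.iSup_centralizer_singleton hnc (hAL.trans hLD) hcop
  refine hD1 (le_bot_iff.1 (hgen ▸ iSup₂_le fun x hx => ?_))
  intro d hd
  rw [Subgroup.mem_bot]
  by_contra hd1
  have hxo : orderOf x = r := orderOf_eq_prime (hexp x (hAL hx.1)) hx.2
  have := h.pow_eq_one_of_commute (Fact.out : r.Prime) hr2 hxo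
    (Subgroup.mem_centralizer_singleton_iff.1 hd.2)
  obtain ⟨k, hk⟩ := hD ⟨d, hd.1⟩
  have h2 : orderOf d ∣ 2 ^ k := orderOf_dvd_of_pow_eq_one (congrArg Subtype.val hk)
  have h1 : orderOf d ∣ Nat.gcd (2 ^ k) r := Nat.dvd_gcd h2 (orderOf_dvd_of_pow_eq_one this)
  rw [(Nat.Coprime.pow_left k ((Nat.coprime_primes Nat.prime_two (Fact.out : r.Prime)).2 hr2.symm)).gcd_eq_one] at h1
  exact hd1 (orderOf_eq_one_iff.1 (Nat.dvd_one.1 h1))

/-- A group with at most two prime divisors is solvable. -/
theorem isSolvable_of_primeFactors (h : (Nat.card G).primeFactors.card ≤ 2) : Group.IsSolvable G := by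
  have hn : Nat.card G ≠ 0 := Nat.card_pos.ne'
  have hprod := Nat.prod_factorization_pow_eq_self hn
  rw [Finsupp.prod, Nat.support_factorization] at hprod
  have hpr : ∀ p ∈ (Nat.card G).primeFactors, p.Prime := fun p hp => Nat.prime_of_mem_primeFactors hp
  rcases Nat.lt_or_ge 1 (Nat.card G).primeFactors.card with h1 | h1
  · obtain ⟨p, q, hpq, he⟩ := Finset.card_eq_two.1 (le_antisymm h h1)
    rw [he, Finset.prod_pair hpq] at hprod
    exact Cfsg.Agent.S0144.result p q _ _ (hpr p (he ▸ by simp)) (hpr q (he ▸ by simp)) hprod.symm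
  · rcases Finset.card_le_one_iff_subset_singleton.1 h1 with ⟨p, hp⟩
    rcases Finset.subset_singleton_iff.1 hp with e | e
    · rw [e, Finset.prod_empty] at hprod
      exact Cfsg.Agent.S0144.result 2 3 0 0 Nat.prime_two Nat.prime_three (by simpa using hprod.symm)
    · rw [e, Finset.prod_singleton] at hprod
      refine Cfsg.Agent.S0144.result p 2 ((Nat.card G).factorization p) 0 (hpr p (e ▸ by simp)) Nat.prime_two ?_
      rw [pow_zero, mul_one]
      exact hprod.symm

theorem not_isSolvable (h : Ord G) (h3 : 3 ≤ (Nat.card G).primeFactors.card) :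
    ¬ Group.IsSolvable G := fun hs => by
  haveI := hs
  have := Cfsg.Agent.S1475.result (G := G) fun g => by
    by_cases hg : g = 1
    · exact Or.inr hg
    · exact Or.inl (h.isPrimePow hg)
  omega

/-- The only field. -/
theorem card_field {F : Type} [Field F] [Fintype F]
    (h : Ord (Matrix.ProjectiveSpecialLinearGroup (Fin 2) F))
    (h3 : 3 ≤ (Nat.card (Matrix.ProjectiveSpecialLinearGroup (Fin 2) F)).primeFactors.card) :
    Fintype.card F = 7 := by
  classical
  set q := Fintype.card F with hq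
  have hc := CfsgLib.Char.FewSylow.card_psl_two (F := F)
  rw [← hq] at hc
  obtain ⟨p, hpc⟩ := CharP.exists F
  obtain ⟨f, hp, hqf⟩ := FiniteField.card F p
  haveI : Fact p.Prime := ⟨hp⟩
  haveI := hpc
  rw [← hq] at hqf
  -- five does not divide the order
  have h5 : ¬ 5 ∣ Nat.card (Matrix.ProjectiveSpecialLinearGroup (Fin 2) F) := by
    intro hd
    haveI : Fact (Nat.Prime 5) := ⟨by norm_num⟩
    obtain ⟨x, hx⟩ := exists_prime_orderOf_dvd_card' (G := Matrix.ProjectiveSpecialLinearGroup (Fin 2) F) 5 hd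
    rcases h x (fun e => by rw [e, orderOf_one] at hx; omega) with ⟨k, hk⟩ | ⟨-, hne⟩
    · rw [hx] at hk
      rcases k with _ | k
      · simp at hk
      · rw [pow_succ] at hk; omega
    · exact hne hx
  -- the order of an element
  have hord : ∀ (x : Matrix.ProjectiveSpecialLinearGroup (Fin 2) F) (m : ℕ), orderOf x = m → Odd m →
      m = 1 ∨ (m.Prime ∧ m ≠ 5) := by
    intro x m hm hodd
    by_cases hx : x = 1
    · left; rw [← hm, hx, orderOf_one]
    rcases h x hx with ⟨k, hk⟩ | ⟨hpr, hne⟩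
    · left
      rw [hm] at hk
      rcases Nat.eq_zero_or_pos k with rfl | hk0
      · simpa using hk
      · rw [hk, Nat.odd_pow_iff hk0.ne'] at hodd
        exact absurd hodd (by decide)
    · exact Or.inr ⟨hm ▸ hpr, hm ▸ hne⟩
  have hmod3 : ∀ j : ℕ, 2 ^ j % 3 = if Even j then 1 else 2 := by
    intro j
    induction j with
    | zero => simp
    | succ j ih =>
      rw [pow_succ, Nat.mul_mod, ih]
      by_cases hj : Even j <;> simp [hj, Nat.even_add_one]
  rcases Nat.even_or_odd q with hev | hodd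
  · exfalso
    have hp2 : p = 2 := ((Nat.prime_dvd_prime_iff_eq Nat.prime_two hp).1
      (Nat.prime_two.dvd_of_dvd_pow (hqf ▸ even_iff_two_dvd.1 hev))).symm
    subst hp2
    have h2 : (2 : F) = 0 := CharP.cast_eq_zero F 2
    -- the projection preserves orders
    have hinj : Function.Injective (QuotientGroup.mk' (center SL(2, F))) := by
      rw [← MonoidHom.ker_eq_bot_iff, QuotientGroup.ker_mk', Subgroup.eq_bot_iff_forall]
      intro A hA
      obtain ⟨r, hr, hrA⟩ := Matrix.SpecialLinearGroup.mem_center_iff.1 hA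
      rw [Fintype.card_fin] at hr
      have hr1 : r = 1 := by
        have h' : (r - 1) ^ 2 = 0 := by linear_combination hr + (1 - r) * h2
        exact sub_eq_zero.1 (sq_eq_zero_iff.1 h')
      subst hr1
      exact Subtype.ext (by rw [← hrA]; simp)
    have hq2 : 2 ≤ q := Fintype.one_lt_card
    obtain ⟨g, hg⟩ := CfsgLib.Classical.exists_sl2_minus (F := F)
    obtain ⟨g', hg'⟩ := CfsgLib.Classical.exists_sl2_plus (F := F) 2
    have hqodd : Odd (q - 1) ∧ Odd (q + 1) := by
      obtain ⟨w, hw⟩ := hev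
      exact ⟨⟨w - 1, by omega⟩, ⟨w, by omega⟩⟩
    have e1 := hord _ (q - 1) (by rw [orderOf_injective _ hinj g, hg]) hqodd.1
    have e2 := hord _ (q + 1) (by rw [orderOf_injective _ hinj g', hg']) hqodd.2
    rcases e1 with e1 | ⟨e1, -⟩
    · have hq2' : q = 2 := by omega
      rw [hq2'] at hc
      have hcard : Nat.card (Matrix.ProjectiveSpecialLinearGroup (Fin 2) F) = 6 := by
        rw [show Nat.gcd 2 (2 - 1) = 1 from rfl] at hc; omega
      rw [hcard, show (6 : ℕ).primeFactors = {2, 3} by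
        rw [show (6 : ℕ) = 2 * 3 by rfl, Nat.primeFactors_mul (by norm_num) (by norm_num),
          Nat.prime_two.primeFactors, Nat.prime_three.primeFactors]; rfl] at h3
      simp at h3
    rcases e2 with e2 | ⟨e2, h5'⟩
    · omega
    have h30 := hmod3 f
    rw [← hqf] at h30
    have hd : 3 ∣ q - 1 ∨ 3 ∣ q + 1 := by
      split_ifs at h30 <;> omega
    rcases hd with hd | hd
    · have := (Nat.prime_dvd_prime_iff_eq Nat.prime_three e1).1 hd
      exact h5' (by omega)
    · have := (Nat.prime_dvd_prime_iff_eq Nat.prime_three e2).1 hd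
      have h2q : q = 2 := by omega
      have h1 : (2 - 1).Prime := h2q ▸ e1
      exact absurd h1 Nat.not_prime_one
  · have hp2 : p ≠ 2 := fun e => by
      rw [hqf, e, Nat.odd_pow_iff f.ne_zero] at hodd
      exact absurd hodd (by decide)
    have h2 : (2 : F) ≠ 0 := fun e => hp2 ((Nat.prime_dvd_prime_iff_eq hp Nat.prime_two).1
      ((CharP.cast_eq_zero_iff F p 2).1 (by exact_mod_cast e)))
    have hq3 : 3 ≤ q := by
      have : 2 ≤ q := Fintype.one_lt_card
      obtain ⟨w, hw⟩ := hodd
      omega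
    obtain ⟨g, hg⟩ := CfsgLib.Classical.exists_sl2_minus (F := F)
    obtain ⟨g', hg'⟩ := CfsgLib.Classical.exists_sl2_plus (F := F) p
    obtain ⟨m, hm⟩ := hodd
    have om : ∃ x : Matrix.ProjectiveSpecialLinearGroup (Fin 2) F, orderOf x = m :=
      ⟨_, CfsgLib.Involution.SelfCentNoncyclic.psl_exists_order h2 (g := g) (by rw [hg, ← hq]; omega)⟩
    have om' : ∃ x : Matrix.ProjectiveSpecialLinearGroup (Fin 2) F, orderOf x = m + 1 :=
      ⟨_, CfsgLib.Involution.SelfCentNoncyclic.psl_exists_order h2 (g := g') (by rw [hg', ← hq]; omega)⟩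
    have hq5 : q ≠ 5 := by
      intro e
      apply h5
      rw [e] at hc
      have : Nat.card (Matrix.ProjectiveSpecialLinearGroup (Fin 2) F) = 60 := by
        rw [show Nat.gcd 2 (5 - 1) = 2 from rfl] at hc; omega
      rw [this]; norm_num
    have hq9 : q ≠ 9 := by
      intro e
      apply h5
      rw [e] at hc
      have : Nat.card (Matrix.ProjectiveSpecialLinearGroup (Fin 2) F) = 360 := by
        rw [show Nat.gcd 2 (9 - 1) = 2 from rfl] at hc; omega
      rw [this]; norm_num
    have hq3' : q ≠ 3 := by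
      intro e
      rw [e] at hc
      have hcard : Nat.card (Matrix.ProjectiveSpecialLinearGroup (Fin 2) F) = 12 := by
        rw [show Nat.gcd 2 (3 - 1) = 2 from rfl] at hc; omega
      rw [hcard, show (12 : ℕ).primeFactors = {2, 3} by
        rw [show (12 : ℕ) = 2 ^ 2 * 3 by rfl, Nat.primeFactors_mul (by norm_num) (by norm_num),
          Nat.primeFactors_prime_pow (by norm_num) Nat.prime_two, Nat.prime_three.primeFactors]; rfl] at h3
      simp at h3
    -- a power of two
    have hpow : ∀ n : ℕ, (∃ x : Matrix.ProjectiveSpecialLinearGroup (Fin 2) F, orderOf x = n) →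
        Even n → ∃ j, n = 2 ^ j := by
      rintro n ⟨x, hx⟩ hn
      by_cases hx1 : x = 1
      · exact ⟨0, by rw [← hx, hx1, orderOf_one, pow_zero]⟩
      rcases h x hx1 with ⟨k, hk⟩ | ⟨hpr, -⟩
      · exact ⟨k, hx ▸ hk⟩
      · rw [hx] at hpr
        exact ⟨1, by rw [pow_one]; exact (hpr.even_iff).1 hn⟩
    rcases Nat.even_or_odd m with hme | hmo
    · exfalso
      obtain ⟨j, rfl⟩ := hpow m om hme
      obtain ⟨x, hx⟩ := om'
      have hq' : p ^ (f : ℕ) = 2 ^ (j + 1) + 1 := by rw [← hqf, hm, pow_succ]; ring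
      rcases CfsgLib.Involution.SelfCentNoncyclic.nine_or_prime_plus hp hp2 f.pos hq' with h9 | hpr
      · exact hq9 (hqf.trans h9)
      rw [← hqf] at hpr
      have hj : j ≠ 0 := fun e => by
        subst e
        exact absurd hme (by decide)
      have h30 := hmod3 j
      have hodd' : Odd (2 ^ j + 1) := hme.add_one
      rcases hord x _ hx hodd' with e | ⟨e, -⟩
      · have := Nat.two_pow_pos j; omega
      split_ifs at h30 with hje
      · have hd : 3 ∣ q := by omega
        exact hq3' ((Nat.prime_dvd_prime_iff_eq Nat.prime_three hpr).1 hd).symm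
      · have hd : 3 ∣ 2 ^ j + 1 := by omega
        have := (Nat.prime_dvd_prime_iff_eq Nat.prime_three e).1 hd
        exact hq5 (by omega)
    · obtain ⟨j, hj⟩ := hpow (m + 1) om' hmo.add_one
      obtain ⟨x, hx⟩ := om
      have hq' : p ^ (f : ℕ) + 1 = 2 ^ (j + 1) := by rw [← hqf, pow_succ]; omega
      have hpr := CfsgLib.Involution.SelfCentNoncyclic.prime_minus hp hp2 f.pos hq'
      rw [← hqf] at hpr
      have h30 := hmod3 j
      rcases hord x _ hx hmo with e | ⟨e, -⟩
      · omega
      split_ifs at h30 with hje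
      · have hd : 3 ∣ m := by omega
        have := (Nat.prime_dvd_prime_iff_eq Nat.prime_three e).1 hd
        omega
      · have hd : 3 ∣ q := by omega
        exact absurd ((Nat.prime_dvd_prime_iff_eq Nat.prime_three hpr).1 hd).symm hq3'

end CfsgLib.Recognition.PrimeOrders
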