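import Cfsg.Agent.Lib.Recognition.PrimeOrders.Orders
import Cfsg.Agent.S0204
import Cfsg.Prelude.Def_Exceptional

/-!
Reduction of `Ord` groups with three primes to the simple case: `PSL(2, 7)` is the only one.
-/

set_option autoImplicit false
set_option linter.unusedSectionVars false
set_option linter.style.haveILetI false

open Subgroup
open scoped MatrixGroups

namespace CfsgLib.Recognition.PrimeOrders

universe u

/-- `PSL(2, 7)`. -/
abbrev L7 : Type := Matrix.ProjectiveSpecialLinearGroup (Fin 2) (ZMod 7)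

theorem card_L7 : Nat.card L7 = 168 := by
  haveI : Fact (Nat.Prime 7) := ⟨by norm_num⟩
  have h := CfsgLib.Char.FewSylow.card_psl_two (F := ZMod 7)
  rw [ZMod.card, show Nat.gcd 2 (7 - 1) = 2 from rfl] at h
  show Nat.card (Matrix.ProjectiveSpecialLinearGroup (Fin 2) (ZMod 7)) = 168
  omega

/-- The induction hypothesis: smaller groups are `PSL(2, 7)`. -/
def Below (n : ℕ) : Prop :=
  ∀ (H : Type u) [Group H] [Finite H], Nat.card H < n → Ord H →
    3 ≤ (Nat.card H).primeFactors.card → Nonempty (H ≃* L7)

variable {G : Type u} [Group G] [Finite G]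

theorem three_le (h : ¬ Group.IsSolvable G) : 3 ≤ (Nat.card G).primeFactors.card := by
  by_contra hc
  exact h (isSolvable_of_primeFactors (by omega))

theorem Below.card (hB : Below.{u} (Nat.card G)) {H : Type u} [Group H] [Finite H]
    (hlt : Nat.card H < Nat.card G) (h : Ord H) (h3 : 3 ≤ (Nat.card H).primeFactors.card) :
    Nat.card H = 168 := by
  obtain ⟨e⟩ := hB H hlt h h3
  rw [Nat.card_congr e.toEquiv, card_L7]

/-- The Sylow normaliser of order `21`. -/
theorem Ord.normalizer_seven (h : Ord G) (hc : Nat.card G = 168) [Fact (Nat.Prime 7)]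
    (P : Sylow 7 G) : Nat.card P = 7 ∧ Nat.card ↥(normalizer ((P : Subgroup G) : Set G)) = 21 := by
  have h7 : ¬ 7 ∣ (24 : ℕ) := by norm_num
  have hP : Nat.card P = 7 := by
    rw [Sylow.card_eq_multiplicity, hc, show (168 : ℕ) = 7 * 24 from rfl,
      Nat.factorization_mul (by norm_num) (by norm_num), Finsupp.add_apply,
      Nat.Prime.factorization_self (by norm_num), Nat.factorization_eq_zero_of_not_dvd h7,
      add_zero, pow_one]
  refine ⟨hP, ?_⟩
  obtain ⟨i, hi⟩ := h.card_normalizer_dvd (by norm_num) (by norm_num) hP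
  have hidx : (P : Subgroup G).index = 24 := by
    have := Subgroup.card_mul_index (P : Subgroup G)
    rw [hc, hP] at this; omega
  have hd := Sylow.card_dvd_index P
  have hm := card_sylow_modEq_one 7 G
  have hN := Subgroup.card_mul_index (normalizer ((P : Subgroup G) : Set G))
  rw [show (normalizer ((P : Subgroup G) : Set G)).index = Nat.card (Sylow 7 G) from
    P.card_eq_index_normalizer.symm, hc] at hN
  rw [hidx] at hd
  have hle : Nat.card (Sylow 7 G) ≤ 24 := Nat.le_of_dvd (by norm_num) hd
  generalize Nat.card (Sylow 7 G) = n at hd hm hN hle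
  interval_cases n <;> revert hd hm <;> norm_num [Nat.ModEq]
  · exfalso
    have h8 : 8 ∣ (7 - 1) * 7 ^ i := by
      refine (show (8 : ℕ) ∣ 168 by norm_num).trans ?_
      rw [show (168 : ℕ) = Nat.card ↥(normalizer ((P : Subgroup G) : Set G)) by omega]
      exact hi
    have := (Nat.Coprime.pow_right i (show Nat.Coprime 8 7 by norm_num)).dvd_of_dvd_mul_right h8
    omega
  · show Nat.card ↥(normalizer ((P : Subgroup G) : Set G)) = 21
    omega

/-- The Sylow normaliser of order `6`. -/
theorem Ord.normalizer_three (h : Ord G) (hc : Nat.card G = 168) [Fact (Nat.Prime 3)]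
    (Q : Sylow 3 G) : Nat.card Q = 3 ∧ Nat.card ↥(normalizer ((Q : Subgroup G) : Set G)) = 6 := by
  have h3 : ¬ 3 ∣ (56 : ℕ) := by norm_num
  have hQ : Nat.card Q = 3 := by
    rw [Sylow.card_eq_multiplicity, hc, show (168 : ℕ) = 3 * 56 from rfl,
      Nat.factorization_mul (by norm_num) (by norm_num), Finsupp.add_apply,
      Nat.Prime.factorization_self (by norm_num), Nat.factorization_eq_zero_of_not_dvd h3,
      add_zero, pow_one]
  refine ⟨hQ, ?_⟩
  obtain ⟨i, hi⟩ := h.card_normalizer_dvd (by norm_num) (by norm_num) hQ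
  have hidx : (Q : Subgroup G).index = 56 := by
    have := Subgroup.card_mul_index (Q : Subgroup G)
    rw [hc, hQ] at this; omega
  have hd := Sylow.card_dvd_index Q
  have hm := card_sylow_modEq_one 3 G
  have hN := Subgroup.card_mul_index (normalizer ((Q : Subgroup G) : Set G))
  rw [show (normalizer ((Q : Subgroup G) : Set G)).index = Nat.card (Sylow 3 G) from
    Q.card_eq_index_normalizer.symm, hc] at hN
  rw [hidx] at hd
  have hle : Nat.card (Sylow 3 G) ≤ 56 := Nat.le_of_dvd (by norm_num) hd
  have hdiv : ∀ d, Nat.card ↥(normalizer ((Q : Subgroup G) : Set G)) = d → d ∣ 2 * 3 ^ i :=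
    fun d hd' => hd' ▸ hi
  generalize Nat.card (Sylow 3 G) = n at hd hm hN hle
  generalize Nat.card ↥(normalizer ((Q : Subgroup G) : Set G)) = d at hN hdiv
  have h4 : ¬ 4 ∣ d := fun h4 => by
    have := (Nat.Coprime.pow_right i (show Nat.Coprime 4 3 by norm_num)).dvd_of_dvd_mul_right
      (h4.trans (hdiv d rfl))
    omega
  have h7 : ¬ 7 ∣ d := fun h7 => by
    have := (Nat.Coprime.pow_right i (show Nat.Coprime 7 3 by norm_num)).dvd_of_dvd_mul_right
      (h7.trans (hdiv d rfl))
    omega
  interval_cases n <;> revert hd hm <;> norm_num [Nat.ModEq] <;> omega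

/-- No nontrivial solvable normal subgroup. -/
theorem Ord.eq_bot_of_solvable (h : Ord G) (h3 : 3 ≤ (Nat.card G).primeFactors.card)
    (hB : Below.{u} (Nat.card G)) (K : Subgroup G) [K.Normal] (hK : Group.IsSolvable K) : K = ⊥ := by
  have hns := not_isSolvable h h3
  obtain ⟨R, hRn, hRs, hRmax⟩ := OneToFive.exists_radical G
  haveI := hRn
  haveI := hRs
  refine le_bot_iff.1 ((hRmax K inferInstance hK).trans (le_of_eq ?_))
  by_contra hR1
  obtain ⟨⟨p, hp, hpR⟩, ⟨M, -, hMs, hMna, -⟩, h2⟩ :=
    Cfsg.Agent.S3992.result hns (fun g hg => h.isPrimePow hg) R hRs hRmax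
  haveI : Fact p.Prime := ⟨hp⟩
  obtain ⟨a, ha⟩ := IsPGroup.iff_card.1 hpR
  have hmk := QuotientGroup.mk'_surjective R
  have hcomap : ∀ L : Subgroup (G ⧸ R),
      Nat.card (L.comap (QuotientGroup.mk' R)) = Nat.card L * Nat.card R := fun L => by
    have h1 := Subgroup.index_comap_of_surjective L hmk
    have h2 := Subgroup.card_mul_index (L.comap (QuotientGroup.mk' R))
    have h3' := Subgroup.card_eq_card_quotient_mul_card_subgroup R
    rw [h1, h3', ← Subgroup.card_mul_index L, mul_right_comm] at h2
    exact Nat.eq_of_mul_eq_mul_right (Nat.pos_of_ne_zero L.index_ne_zero_of_finite) h2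
  have hR2 : 2 ≤ Nat.card R := by
    have := R.one_lt_card_iff_ne_bot.2 hR1
    omega
  rcases eq_or_ne p 2 with rfl | hp2
  · have hqns : ¬ Group.IsSolvable (G ⧸ R) := fun hs => hns (by
      haveI := hs
      exact Group.isSolvable_of_ker_le_range R.subtype (QuotientGroup.mk' R)
        (fun x hx => ⟨⟨x, by simpa using hx⟩, rfl⟩))
    have hlt : Nat.card (G ⧸ R) < Nat.card G := by
      rw [Subgroup.card_eq_card_quotient_mul_card_subgroup R]
      exact lt_mul_of_one_lt_right Nat.card_pos (by omega)
    have hq := hB.card hlt (h.quotient R) (three_le hqns)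
    haveI : Fact (Nat.Prime 7) := ⟨by norm_num⟩
    obtain ⟨-, hN⟩ := (h.quotient R).normalizer_seven hq (default : Sylow 7 (G ⧸ R))
    set N := normalizer (((default : Sylow 7 (G ⧸ R)) : Subgroup (G ⧸ R)) : Set (G ⧸ R))
    haveI : Group.IsSolvable N :=
      Cfsg.Agent.S0144.result 3 7 1 1 Nat.prime_three (by norm_num) (by rw [hN]; norm_num)
    have hH := h2 _ (Cfsg.Agent.S3992.solvable_comap R N)
    rw [hcomap, hN, ha] at hH
    have ha0 : a ≠ 0 := fun e => by rw [ha, e] at hR2; omega
    have hpf : (21 * 2 ^ a).primeFactors = {3, 7, 2} := by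
      rw [Nat.primeFactors_mul (by norm_num) (by positivity),
        show (21 : ℕ) = 3 * 7 from rfl, Nat.primeFactors_mul (by norm_num) (by norm_num),
        Nat.prime_three.primeFactors, (show Nat.Prime 7 by norm_num).primeFactors,
        Nat.primeFactors_prime_pow ha0 Nat.prime_two]
      rfl
    rw [hpf] at hH
    norm_num at hH
  · haveI := hMs
    obtain ⟨E, hE⟩ := Cfsg.Agent.S0204.result (G := M) (fun hc => hMna (by
      haveI := hc
      exact ⟨⟨IsCyclic.commGroup.mul_comm⟩⟩))
    haveI := hE
    set E' := E.map M.subtype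
    have hE' : Nat.card E' = 4 := by
      rw [← IsKleinFour.card_four (G := E)]
      exact Nat.card_congr (E.equivMapOfInjective _ M.subtype_injective).symm.toEquiv
    set H := E'.comap (QuotientGroup.mk' R)
    haveI : Fact (Nat.Prime 2) := ⟨Nat.prime_two⟩
    obtain ⟨S⟩ : Nonempty (Sylow 2 H) := inferInstance
    have hodd : ¬ 2 ∣ p ^ a := fun hd =>
      hp2 ((Nat.prime_dvd_prime_iff_eq Nat.prime_two hp).1 (Nat.prime_two.dvd_of_dvd_pow hd)).symm
    have hS : Nat.card S = 4 := by
      rw [Sylow.card_eq_multiplicity, hcomap, hE', ha,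
        Nat.factorization_mul (by norm_num) (pow_ne_zero _ hp.ne_zero), Finsupp.add_apply,
        show (4 : ℕ) = 2 ^ 2 from rfl, Nat.Prime.factorization_pow Nat.prime_two,
        Finsupp.single_eq_same, Nat.factorization_eq_zero_of_not_dvd hodd, add_zero]
    set A := (S : Subgroup H).map H.subtype
    have hA : Nat.card A = 4 := by
      rw [← hS]
      exact Nat.card_congr ((S : Subgroup H).equivMapOfInjective _ H.subtype_injective).symm.toEquiv
    have hcop : (Nat.card A).Coprime (Nat.card R) := by
      rw [hA, ha, show (4 : ℕ) = 2 ^ 2 from rfl]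
      exact Nat.Coprime.pow _ _ ((Nat.coprime_primes Nat.prime_two hp).2 hp2.symm)
    haveI : IsMulCommutative A := IsPGroup.isMulCommutative_of_card_eq_prime_sq (p := 2) (by rw [hA]; norm_num)
    have hnc : ¬ IsCyclic A := by
      intro hcy
      haveI := hcy
      have hAE : A.map (QuotientGroup.mk' R) = E' := by
        refine Subgroup.eq_of_le_of_card_ge ?_ (le_of_eq ?_)
        · rintro _ ⟨x, ⟨y, -, rfl⟩, rfl⟩
          exact y.2
        · rw [hE', ← hA]
          refine Nat.card_congr (Equiv.ofBijective _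
            ⟨?_, (QuotientGroup.mk' R).subgroupMap_surjective A⟩)
          intro x y hxy
          refine inv_mul_eq_one.1 ?_
          have hmem : ((x⁻¹ * y : A) : G) ∈ R := by
            rw [← QuotientGroup.eq_one_iff]
            have := congrArg Subtype.val hxy
            simpa [inv_mul_eq_one] using this
          exact Subtype.ext (orderOf_eq_one_iff.1 (Nat.eq_one_of_dvd_coprimes hcop
            (Subgroup.orderOf_dvd_natCard _ (x⁻¹ * y).2) (Subgroup.orderOf_dvd_natCard _ hmem)))
      have hcE : IsCyclic E' := hAE ▸ isCyclic_of_surjective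
        ((QuotientGroup.mk' R).subgroupMap A) ((QuotientGroup.mk' R).subgroupMap_surjective A)
      exact IsKleinFour.not_isCyclic ((E.equivMapOfInjective _ M.subtype_injective).isCyclic.2 hcE)
    have hgen := CfsgLib.Coprime.iSup_centralizer_singleton hnc
      (le_normalizer_of_normal (H := R)) hcop
    refine hR1 (le_bot_iff.1 (hgen ▸ iSup₂_le fun x hx => ?_))
    intro c hc
    rw [Subgroup.mem_bot]
    by_contra hc1
    obtain ⟨k, hk⟩ := hpR ⟨c, hc.1⟩
    have hco : orderOf c ∣ p ^ k := orderOf_dvd_of_pow_eq_one (congrArg Subtype.val hk)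
    obtain ⟨j, -, hj⟩ := (Nat.dvd_prime_pow hp).1 hco
    rcases h c hc1 with ⟨i, hi⟩ | ⟨hpr, -⟩
    · rw [hj] at hi
      rcases Nat.eq_zero_or_pos j with rfl | hj0
      · exact hc1 (orderOf_eq_one_iff.1 (by rw [hj, pow_zero]))
      · exact hp2 ((Nat.prime_dvd_prime_iff_eq hp Nat.prime_two).1
          (hp.dvd_of_dvd_pow (hi ▸ dvd_pow_self p hj0.ne')))
    · have hcp : orderOf c = p := by
        rw [hj] at hpr
        rw [hj, Nat.Prime.eq_one_of_pow hpr, pow_one]
      have hxp := h.pow_eq_one_of_commute hp hp2 hcp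
        (Subgroup.mem_centralizer_singleton_iff.1 hc.2).symm
      have h4 : orderOf x ∣ Nat.card A := Subgroup.orderOf_dvd_natCard _ hx.1
      have h1 : orderOf x ∣ Nat.gcd (Nat.card A) p :=
        Nat.dvd_gcd h4 (orderOf_dvd_of_pow_eq_one hxp)
      rw [hA, show (4 : ℕ) = 2 ^ 2 from rfl, (Nat.Coprime.pow_left 2
        ((Nat.coprime_primes Nat.prime_two hp).2 hp2.symm)).gcd_eq_one] at h1
      exact hx.2 (orderOf_eq_one_iff.1 (Nat.dvd_one.1 h1))

/-- Frattini: the index of a normal subgroup in terms of Sylow normalisers. -/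
theorem card_normalizer_map {M : Subgroup G} [M.Normal] {q : ℕ} [Fact q.Prime] (P : Sylow q M) :
    Nat.card ↥(normalizer (((P : Subgroup M).map M.subtype : Subgroup G) : Set G)) =
      Nat.card ↥(normalizer ((P : Subgroup M) : Set M)) * M.index := by
  set N := normalizer (((P : Subgroup M).map M.subtype : Subgroup G) : Set G) with hN
  have htop : N ⊔ M = ⊤ := Sylow.normalizer_sup_eq_top P
  have hidx : M.relIndex N = M.index := by
    rw [← relIndex_sup_right, htop, relIndex_top_right]
  have hsub : normalizer ((P : Subgroup M) : Set M) = N.subgroupOf M := by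
    ext x
    rw [Subgroup.mem_subgroupOf, hN, Subgroup.mem_normalizer_iff, Subgroup.mem_normalizer_iff]
    constructor
    · intro hx g
      constructor
      · rintro ⟨y, hy, rfl⟩
        exact ⟨x * y * x⁻¹, (hx y).1 hy, by simp⟩
      · intro hg
        obtain ⟨y, hy, hye⟩ := hg
        refine ⟨x⁻¹ * y * x, (hx _).2 ?_, ?_⟩
        · rw [show x * (x⁻¹ * y * x) * x⁻¹ = y by group]
          exact hy
        · have : (y : G) = x * g * (x : G)⁻¹ := hye
          simp [this, mul_assoc]
    · intro hx y
      constructor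
      · intro hy
        obtain ⟨z, hz, hze⟩ := (hx y).1 ⟨y, hy, rfl⟩
        have : z = x * y * x⁻¹ := Subtype.ext (by simpa using hze)
        exact this ▸ hz
      · intro hy
        obtain ⟨z, hz, hze⟩ := (hx y).2 ⟨_, hy, by simp⟩
        have : z = y := Subtype.ext (by simpa using hze)
        exact this ▸ hz
  have hmul := Subgroup.card_mul_index (M.subgroupOf N)
  rw [show (M.subgroupOf N).index = M.relIndex N from rfl, hidx] at hmul
  rw [← hmul]
  congr 1
  rw [hsub, ← Nat.card_congr (Subgroup.equivMapOfInjective (M.subgroupOf N) _ N.subtype_injective).symm.toEquiv,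
    ← Nat.card_congr (Subgroup.equivMapOfInjective (N.subgroupOf M) _ M.subtype_injective).symm.toEquiv,
    Subgroup.subgroupOf_map_subtype, Subgroup.subgroupOf_map_subtype, inf_comm]

/-- A group with `PSL(2, 7)` normal is that group. -/
theorem Ord.eq_top (h : Ord G) (M : Subgroup G) [M.Normal] (hM : Nat.card M = 168) : M = ⊤ := by
  haveI : Fact (Nat.Prime 7) := ⟨by norm_num⟩
  haveI : Fact (Nat.Prime 3) := ⟨Nat.prime_three⟩
  obtain ⟨P⟩ : Nonempty (Sylow 7 M) := inferInstance
  obtain ⟨Q⟩ : Nonempty (Sylow 3 M) := inferInstance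
  obtain ⟨hP, hNP⟩ := (h.subgroup M).normalizer_seven hM P
  obtain ⟨hQ, hNQ⟩ := (h.subgroup M).normalizer_three hM Q
  obtain ⟨i, hi⟩ := h.card_normalizer_dvd (p := 7) (P := (P : Subgroup M).map M.subtype)
    (by norm_num) (by norm_num)
    ((Nat.card_congr ((P : Subgroup M).equivMapOfInjective _ M.subtype_injective).symm.toEquiv).trans hP)
  obtain ⟨j, hj⟩ := h.card_normalizer_dvd (p := 3) (P := (Q : Subgroup M).map M.subtype)
    Nat.prime_three (by norm_num)
    ((Nat.card_congr ((Q : Subgroup M).equivMapOfInjective _ M.subtype_injective).symm.toEquiv).trans hQ)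
  rw [card_normalizer_map P, hNP] at hi
  rw [card_normalizer_map Q, hNQ] at hj
  refine Subgroup.index_eq_one.1 ?_
  have e1 : M.index ∣ 2 * 7 ^ i := by
    refine Nat.dvd_of_mul_dvd_mul_left (show 0 < 3 by norm_num) ((mul_dvd_mul_right ?_ _).trans (hi.trans ?_))
    · norm_num
    · exact dvd_of_eq (by ring_nf)
  have e2 : M.index ∣ 3 ^ j := by
    refine (Nat.dvd_of_mul_dvd_mul_left (show 0 < 2 by norm_num) ((mul_dvd_mul_right ?_ _).trans hj))
    norm_num
  exact Nat.eq_one_of_dvd_coprimes
    (Nat.Coprime.mul_left (Nat.Coprime.pow_right j (by norm_num))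
      (Nat.Coprime.pow i j (by norm_num))) e1 e2

/-- The simple case. -/
theorem Ord.of_simple [IsSimpleGroup G] (h : Ord G) (h3 : 3 ≤ (Nat.card G).primeFactors.card)
    (hB : Below.{u} (Nat.card G)) : Nonempty (G ≃* L7) := by
  have hns := not_isSolvable h h3
  have hna : ¬ IsMulCommutative G := fun hc => hns (Group.isSolvable_of_comm fun a b => mul_comm' a b)
  have H : Hyp G := by
    refine ⟨h.cit, fun D hD hD1 => ?_⟩
    set N := normalizer (D : Set G) with hN
    have hNT : N ≠ ⊤ := by
      intro hT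
      haveI : D.Normal := Subgroup.normalizer_eq_top_iff.1 hT
      rcases IsSimpleGroup.eq_bot_or_eq_top_of_normal D inferInstance with e | e
      · exact hD1 e
      · haveI : Fact (Nat.Prime 2) := ⟨Nat.prime_two⟩
        have := (IsPGroup.of_equiv (e ▸ hD : IsPGroup 2 (⊤ : Subgroup G)) Subgroup.topEquiv).isNilpotent
        exact hns inferInstance
    have hlt : Nat.card N < Nat.card G := by
      refine lt_of_le_of_ne (Nat.le_of_dvd Nat.card_pos N.card_subgroup_dvd_card) fun e => ?_
      exact hNT (Subgroup.eq_top_of_card_eq N e)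
    haveI : Fact (Nat.Prime 2) := ⟨Nat.prime_two⟩
    have hN2 : (Nat.card N).primeFactors.card ≤ 2 := by
      by_contra hc
      have hc' : 3 ≤ (Nat.card N).primeFactors.card := by omega
      haveI : (D.subgroupOf N).Normal := Subgroup.normal_in_normalizer
      have hDs : Group.IsSolvable (D.subgroupOf N) := by
        haveI : Group.IsNilpotent (D.subgroupOf N) := (hD.comap_subtype (K := N)).isNilpotent
        infer_instance
      have hbot := (h.subgroup N).eq_bot_of_solvable hc' (fun X _ _ hX => hB X (hX.trans hlt)) _ hDs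
      rw [Subgroup.subgroupOf_eq_bot, disjoint_iff, inf_eq_left.2 le_normalizer] at hbot
      exact hD1 hbot
    have h2N : 2 ∣ Nat.card N := by
      obtain ⟨k, hk⟩ := IsPGroup.iff_card.1 hD
      have hk0 : k ≠ 0 := fun e => hD1 (Subgroup.card_eq_one.1 (by rw [hk, e, pow_zero]))
      exact ((dvd_pow_self 2 hk0).trans (hk ▸ dvd_rfl)).trans (Subgroup.card_dvd_of_le le_normalizer)
    have hn0 : Nat.card N ≠ 0 := Nat.card_pos.ne'
    have hprod := Nat.prod_factorization_pow_eq_self hn0
    rw [Finsupp.prod, Nat.support_factorization] at hprod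
    have h2m : 2 ∈ (Nat.card N).primeFactors := Nat.mem_primeFactors.2 ⟨Nat.prime_two, h2N, hn0⟩
    by_cases hr : ∃ r ∈ (Nat.card N).primeFactors, r ≠ 2
    · obtain ⟨r, hr, hr2⟩ := hr
      have hrp := Nat.prime_of_mem_primeFactors hr
      haveI : Fact r.Prime := ⟨hrp⟩
      have hpf : ({2, r} : Finset ℕ) = (Nat.card N).primeFactors :=
        Finset.eq_of_subset_of_card_le (by simp [Finset.insert_subset_iff, h2m, hr])
          (by rw [Finset.card_pair hr2.symm]; exact hN2)
      rw [← hpf, Finset.prod_pair hr2.symm] at hprod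
      obtain ⟨L⟩ : Nonempty (Sylow r N) := inferInstance
      have hL : Nat.card ((L : Subgroup N).map N.subtype) = r ^ (Nat.card N).factorization r := by
        rw [← L.card_eq_multiplicity]
        exact Nat.card_congr ((L : Subgroup N).equivMapOfInjective _ N.subtype_injective).symm.toEquiv
      have hle := h.card_le_prime hr2 hD hD1 (L.isPGroup'.map N.subtype) (Subgroup.map_subtype_le _)
      rw [hL] at hle
      have h1 : (Nat.card N).factorization r = 1 := by
        have hpos := Nat.Prime.factorization_pos_of_dvd hrp hn0 (Nat.dvd_of_mem_primeFactors hr)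
        have := (Nat.pow_le_pow_iff_right hrp.one_lt).1 (hle.trans_eq (pow_one r).symm)
        omega
      exact ⟨_, r, Or.inr hrp, hrp.odd_of_ne_two hr2, by rw [← hprod, h1, pow_one]⟩
    · push Not at hr
      have hpf : (Nat.card N).primeFactors = {2} := Finset.eq_singleton_iff_unique_mem.2 ⟨h2m, hr⟩
      rw [hpf, Finset.prod_singleton] at hprod
      exact ⟨_, 1, Or.inl rfl, odd_one, by rw [mul_one]; exact hprod.symm⟩
  rcases H.classify hna with ⟨F, _, _, ⟨e⟩⟩ | ⟨-, m, -, hm⟩
  · have hF := card_field (h.equiv e.symm) (by rwa [← Nat.card_congr e.toEquiv])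
    haveI : Fact (Nat.Prime 7) := ⟨by norm_num⟩
    obtain ⟨j⟩ := CfsgLib.Classical.Dickson.psl_congr (RingEquiv.refl F)
    obtain ⟨i⟩ := CfsgLib.Classical.Dickson.psl_congr
      (FiniteField.ringEquivOfCardEq (K := F) (K' := ZMod 7) (by rw [hF, ZMod.card]))
    exact ⟨e.trans (j.symm.trans i)⟩
  · exfalso
    have h5 : 5 ∣ (2 ^ (2 * m + 1)) ^ 2 + 1 := by
      have h4 : ∀ j : ℕ, 4 ^ (2 * j + 1) % 5 = 4 := fun j => by
        rw [pow_succ, pow_mul, Nat.mul_mod, Nat.pow_mod]; norm_num
      have := h4 m
      rw [← pow_mul, mul_comm (2 * m + 1) 2, pow_mul, show (2 : ℕ) ^ 2 = 4 from rfl]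
      omega
    haveI : Fact (Nat.Prime 5) := ⟨by norm_num⟩
    obtain ⟨x, hx⟩ := exists_prime_orderOf_dvd_card' (G := G) 5
      (hm ▸ dvd_mul_of_dvd_left (dvd_mul_of_dvd_right h5 _) _)
    rcases h x (fun e => by rw [e, orderOf_one] at hx; omega) with ⟨k, hk⟩ | ⟨-, hne⟩
    · rw [hx] at hk
      rcases k with _ | k
      · simp at hk
      · rw [pow_succ] at hk; omega
    · exact hne hx

theorem below : ∀ n : ℕ, Below.{u} n := by
  intro n
  induction n with
  | zero => intro H _ _ hH; omega
  | succ n ih =>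
    intro G _ _ hG h h3
    rcases Nat.lt_or_ge (Nat.card G) n with hlt | hge
    · exact ih G hlt h h3
    have hB : Below.{u} (Nat.card G) := fun H _ _ hH => ih H (by omega)
    have hns := not_isSolvable h h3
    obtain ⟨R, hRn, hRs, hRmax⟩ := OneToFive.exists_radical G
    haveI := hRn
    have hR : R = ⊥ := h.eq_bot_of_solvable h3 hB R hRs
    subst hR
    obtain ⟨-, ⟨M, hMn, hMs, hMna, hMmin⟩, -⟩ :=
      Cfsg.Agent.S3992.result hns (fun g hg => h.isPrimePow hg) ⊥ hRs hRmax
    let e : G ⧸ (⊥ : Subgroup G) ≃* G := QuotientGroup.quotientBot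
    set M' := M.map e.toMonoidHom with hM'
    haveI : M'.Normal := hMn.map _ e.surjective
    have eM : M ≃* M' := M.equivMapOfInjective e.toMonoidHom e.injective
    haveI := hMs
    haveI : Nontrivial M' := eM.symm.toEquiv.nontrivial
    haveI hMs' : IsSimpleGroup M' := IsSimpleGroup.isSimpleGroup_of_surjective eM.toMonoidHom eM.surjective
    by_cases hT : M' = ⊤
    · haveI : IsSimpleGroup G := by
        have eT : M' ≃* G := (MulEquiv.subgroupCongr hT).trans Subgroup.topEquiv
        haveI : Nontrivial G := eT.symm.toEquiv.nontrivial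
        exact IsSimpleGroup.isSimpleGroup_of_surjective eT.toMonoidHom eT.surjective
      exact h.of_simple h3 hB
    · exfalso
      have hlt : Nat.card M' < Nat.card G := by
        refine lt_of_le_of_ne (Nat.le_of_dvd Nat.card_pos M'.card_subgroup_dvd_card) fun e => ?_
        exact hT (Subgroup.eq_top_of_card_eq M' e)
      have hMns : ¬ Group.IsSolvable M' := fun hs => hMna (by
        haveI := hs
        haveI : Group.IsSolvable M := Group.isSolvable_of_surjective (f := eM.symm.toMonoidHom) eM.symm.surjective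
        exact ⟨⟨(IsSimpleGroup.comm_iff_isSolvable (G := M)).2 inferInstance⟩⟩)
      exact hT (h.eq_top M' (hB.card hlt (h.subgroup M') (three_le hMns)))

/-- The classification of `Ord` groups with three primes. -/
theorem Ord.nonempty_equiv (h : Ord G) (h3 : 3 ≤ (Nat.card G).primeFactors.card) :
    Nonempty (G ≃* L7) :=
  below (Nat.card G + 1) G (Nat.lt_succ_self _) h h3

end CfsgLib.Recognition.PrimeOrders
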